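import Cfsg.Agent.PermP.ZassStruct

/-!
# The invariant of two elements of order three in a rational fixed-point-free representation
-/

set_option autoImplicit false
set_option linter.all false

namespace Cfsg.Agent.PermP.Zass

open Matrix Polynomial

variable {G : Type*} [Group G] [Finite G] {ι : Type*} [Fintype ι] [DecidableEq ι]
  (ρ : G →* Matrix ι ι ℚ) (hf : ∀ g : G, g ≠ 1 → IsUnit (ρ g - 1))

include hf

theorem isUnit_aeval_cyclotomic {g : G} {m : ℕ} (hm : 0 < m) (hg : g ^ m ≠ 1) :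
    IsUnit (aeval (ρ g) (cyclotomic m ℚ)) := by
  obtain ⟨q, hq⟩ : cyclotomic m ℚ ∣ X ^ m - 1 := cyclotomic.dvd_X_pow_sub_one m ℚ
  have h : aeval (ρ g) (X ^ m - 1 : ℚ[X]) = ρ (g ^ m) - 1 := by simp
  have hu : IsUnit (aeval (ρ g) (cyclotomic m ℚ) * aeval (ρ g) q) := by
    rw [← map_mul, ← hq, h]; exact hf _ hg
  have hc : Commute (aeval (ρ g) (cyclotomic m ℚ)) (aeval (ρ g) q) :=
    (Commute.all (cyclotomic m ℚ) q).map (aeval (ρ g))
  exact (hc.isUnit_mul_iff.1 hu).1

theorem aeval_cyclotomic_order {g : G} : aeval (ρ g) (cyclotomic (orderOf g) ℚ) = 0 := by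
  have hn : 0 < orderOf g := orderOf_pos g
  have hprod := prod_cyclotomic_eq_X_pow_sub_one hn ℚ
  rw [← Nat.insert_self_properDivisors hn.ne',
    Finset.prod_insert Nat.self_notMem_properDivisors] at hprod
  have h := congrArg (aeval (ρ g)) hprod
  have h0 : aeval (ρ g) (X ^ orderOf g - 1 : ℚ[X]) = 0 := by
    rw [map_sub, map_pow, aeval_X, map_one, ← map_pow, pow_orderOf_eq_one, map_one, sub_self]
  rw [map_mul, h0] at h
  have hu : IsUnit (aeval (ρ g) (∏ i ∈ (orderOf g).properDivisors, cyclotomic i ℚ)) := by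
    refine Finset.prod_induction _ (fun p => IsUnit (aeval (ρ g) p)) ?_ ?_ ?_
    · intro p q hp hq; rw [map_mul]; exact hp.mul hq
    · simp
    · intro m hm
      obtain ⟨hmd, hmlt⟩ := Nat.mem_properDivisors.1 hm
      have hm0 : 0 < m := Nat.pos_of_dvd_of_pos hmd hn
      exact isUnit_aeval_cyclotomic ρ hf hm0
        (fun e => absurd (orderOf_le_of_pow_eq_one hm0 e) (not_le.2 hmlt))
  exact hu.mul_left_eq_zero.1 h

theorem eq_zero_of_annihilates {g : G} {p : ℚ[X]} (hp : p.natDegree < (orderOf g).totient)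
    {w : ι → ℚ} (hw : w ≠ 0) (h : aeval (ρ g) p *ᵥ w = 0) : p = 0 := by
  by_contra hp0
  have hirr := cyclotomic.irreducible_rat (orderOf_pos g)
  have hcop : IsCoprime (cyclotomic (orderOf g) ℚ) p := by
    refine hirr.coprime_iff_not_dvd.2 fun hd => ?_
    have := natDegree_le_of_dvd hd hp0
    rw [natDegree_cyclotomic] at this
    omega
  obtain ⟨u, v, huv⟩ := hcop
  apply hw
  have := congrArg (fun q => aeval (ρ g) q *ᵥ w) huv
  simp only [map_add, map_mul, map_one, aeval_cyclotomic_order ρ hf, mul_zero, zero_add,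
    one_mulVec, ← mulVec_mulVec, h, mulVec_zero] at this
  exact this.symm

omit hf in
/-- The real form of the representation. -/
noncomputable def realRep : G →* Matrix ι ι ℝ :=
  ((algebraMap ℚ ℝ).mapMatrix : Matrix ι ι ℚ →+* Matrix ι ι ℝ).toMonoidHom.comp ρ

theorem realRep_fpf {g : G} (hg : g ≠ 1) : IsUnit (realRep ρ g - 1) := by
  have := (hf g hg).map ((algebraMap ℚ ℝ).mapMatrix : Matrix ι ι ℚ →+* Matrix ι ι ℝ)
  rwa [map_sub, map_one] at this

theorem real_annihilates {g : G} {p : ℝ[X]} (hp : p.natDegree < (orderOf g).totient)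
    {w : ι → ℚ} (hw : w ≠ 0)
    (h : aeval (realRep ρ g) p *ᵥ (fun j => algebraMap ℚ ℝ (w j)) = 0) : p = 0 := by
  set d := (orderOf g).totient
  ext k
  rw [coeff_zero]
  by_cases hk : k < d
  swap
  · exact coeff_eq_zero_of_natDegree_lt (lt_of_lt_of_le hp (not_lt.1 hk))
  refine (Module.forall_dual_apply_eq_zero_iff ℚ (p.coeff k)).1 fun φ => ?_
  let q : ℚ[X] := ∑ i ∈ Finset.range d, C (φ (p.coeff i)) * X ^ i
  have hq : q = 0 := by
    refine eq_zero_of_annihilates ρ hf (g := g) ?_ hw ?_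
    · refine lt_of_le_of_lt (natDegree_sum_le_of_forall_le _ _ (n := d - 1) fun i hi => ?_) (by omega)
      exact (natDegree_C_mul_X_pow_le _ _).trans (by have := Finset.mem_range.1 hi; omega)
    · ext j
      have hj := congrArg φ (congrFun h j)
      rw [aeval_eq_sum_range' hp, sum_mulVec, Finset.sum_apply] at hj
      simp only [Pi.zero_apply, map_zero, map_sum, smul_mulVec, Pi.smul_apply, smul_eq_mul] at hj
      rw [Pi.zero_apply, ← hj, map_sum, sum_mulVec, Finset.sum_apply]
      refine Finset.sum_congr rfl fun i hi => ?_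
      have e : (realRep ρ g ^ i *ᵥ fun j => algebraMap ℚ ℝ (w j)) j
          = algebraMap ℚ ℝ ((ρ g ^ i *ᵥ w) j) := by
        rw [RingHom.map_mulVec]
        congr 2
        simp [realRep, Matrix.map_pow]
      rw [e, map_mul, map_pow, aeval_C, aeval_X, ← Algebra.smul_def, smul_mulVec, Pi.smul_apply,
        smul_eq_mul, mul_comm (p.coeff i), ← Algebra.smul_def, map_smul, smul_eq_mul, mul_comm]
  have := congrArg (fun r : ℚ[X] => r.coeff k) hq
  simpa [q, finsetSum_coeff, coeff_C_mul, coeff_X_pow, Finset.sum_ite_eq, hk] using this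

omit hf in
theorem exists_coprime_low {n : ℕ} (h2 : 3 ≤ n) (h4 : n ≠ 4) (h6 : n ≠ 6) (h10 : n ≠ 10) :
    ∃ l, l.Coprime n ∧ n ≤ 3 * l ∧ 2 * l < n := by
  have key : ∀ l d m : ℕ, d ∣ m → Odd l → (∀ q, q.Prime → q ∣ d → q = 2) → l.gcd m ∣ d →
      l.Coprime m := by
    intro l d m _ hl hd hg
    by_contra hne
    obtain ⟨q, hq, hq1, hq2⟩ := Nat.Prime.not_coprime_iff_dvd.1 hne
    obtain rfl := hd q hq ((Nat.dvd_gcd hq1 hq2).trans hg)
    exact (Nat.not_even_iff_odd.2 hl) (even_iff_two_dvd.2 hq1)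
  rcases Nat.even_or_odd n with ⟨m, rfl⟩ | ⟨m, rfl⟩
  · rcases Nat.even_or_odd m with ⟨j, rfl⟩ | ⟨j, rfl⟩
    · refine ⟨2 * j - 1, ?_, by omega, by omega⟩
      refine key _ 2 _ ⟨2 * j, by omega⟩ ⟨j - 1, by omega⟩
        (fun q hq h => (Nat.prime_dvd_prime_iff_eq hq Nat.prime_two).1 h) ?_
      have h := Nat.dvd_sub (Nat.gcd_dvd_right (2 * j - 1) (j + j + (j + j)))
        ((Nat.gcd_dvd_left (2 * j - 1) (j + j + (j + j))).mul_left 2)
      rwa [show j + j + (j + j) - 2 * (2 * j - 1) = 2 by omega] at h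
    · refine ⟨2 * j - 1, ?_, by omega, by omega⟩
      refine key _ 2 _ ⟨2 * j + 1, by omega⟩ ⟨j - 1, by omega⟩
        (fun q hq h => (Nat.prime_dvd_prime_iff_eq hq Nat.prime_two).1 h) ?_
      by_cases hd : (2 * j - 1).gcd (2 * j + 1 + (2 * j + 1)) ∣ 2
      · exact hd
      exfalso
      have h := Nat.dvd_sub (Nat.gcd_dvd_right (2 * j - 1) (2 * j + 1 + (2 * j + 1)))
        ((Nat.gcd_dvd_left (2 * j - 1) (2 * j + 1 + (2 * j + 1))).mul_left 2)
      rw [show 2 * j + 1 + (2 * j + 1) - 2 * (2 * j - 1) = 4 by omega] at h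
      have hodd : Odd ((2 * j - 1).gcd (2 * j + 1 + (2 * j + 1))) := by
        refine Odd.of_dvd_nat ?_ (Nat.gcd_dvd_left _ _)
        exact ⟨j - 1, by omega⟩
      have h1 : (2 * j - 1).gcd (2 * j + 1 + (2 * j + 1)) ∣ 1 :=
        (Nat.Coprime.pow_right 2 hodd.coprime_two_right).dvd_of_dvd_mul_left
          (by simpa using h)
      exact hd (h1.trans (one_dvd 2))
  · refine ⟨m, ?_, by omega, by omega⟩
    rw [Nat.coprime_iff_gcd_eq_one, Nat.gcd_comm]
    simp

omit hf in
/-- An invariant inner product. -/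
noncomputable def form [Fintype G] (x y : ι → ℝ) : ℝ :=
  ∑ g : G, (realRep ρ g *ᵥ x) ⬝ᵥ (realRep ρ g *ᵥ y)

omit hf in
theorem form_adjoint [Fintype G] (h : G) (x y : ι → ℝ) :
    form ρ (realRep ρ h *ᵥ x) y = form ρ x (realRep ρ h⁻¹ *ᵥ y) := by
  unfold form
  refine Fintype.sum_equiv (Equiv.mulRight h) _ _ fun g => ?_
  simp only [Equiv.coe_mulRight, mulVec_mulVec, ← map_mul, mul_inv_cancel_right]

omit hf in
theorem form_pos [Fintype G] {x : ι → ℝ} (hx : x ≠ 0) : 0 < form ρ x x := by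
  have hnn : ∀ v : ι → ℝ, 0 ≤ v ⬝ᵥ v := fun v => Finset.sum_nonneg fun i _ => mul_self_nonneg _
  refine Finset.sum_pos' (fun g _ => hnn _) ⟨1, Finset.mem_univ _, ?_⟩
  rw [map_one, one_mulVec]
  exact lt_of_le_of_ne (hnn x) fun e => hx (dotProduct_self_eq_zero.1 e.symm)

omit hf in
theorem form_sub_left [Fintype G] (x y z : ι → ℝ) :
    form ρ (x - y) z = form ρ x z - form ρ y z := by
  simp [form, mulVec_sub, sub_dotProduct, Finset.sum_sub_distrib]

omit hf in
theorem form_smul_right [Fintype G] (c : ℝ) (x z : ι → ℝ) :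
    form ρ x (c • z) = c * form ρ x z := by
  simp [form, mulVec_smul, dotProduct_smul, Finset.mul_sum]

omit hf in
theorem form_sub_right [Fintype G] (x y z : ι → ℝ) :
    form ρ z (x - y) = form ρ z x - form ρ z y := by
  simp [form, mulVec_sub, dotProduct_sub, Finset.sum_sub_distrib]

theorem lambda_gt {a b : G} (ha : IsOrd3 a) (hb : IsOrd3 b) (hba : b ≠ a) {y : ι → ℝ} (hy : y ≠ 0)
    {t : ℝ} (ht : (realRep ρ (a * b) + realRep ρ (a * b)⁻¹) *ᵥ y = t • y) : -1 < t := by
  have hι : Nonempty ι := by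
    by_contra hne
    haveI := not_nonempty_iff.1 hne
    exact hy (Subsingleton.elim _ _)
  haveI := Fintype.ofFinite G
  haveI : Nontrivial (Matrix ι ι ℝ) := inferInstance
  let P : Rep G (Matrix ι ι ℚ) → True := fun _ => trivial
  set A := realRep ρ a with hA
  set B := realRep ρ b with hB
  have hord : ∀ x : G, IsOrd3 x → Ord3 (realRep ρ x) := by
    intro x hx
    have hu := realRep_fpf ρ hf hx.2
    have h3 : realRep ρ x * (realRep ρ x * realRep ρ x) = 1 := by
      rw [← map_mul, ← map_mul, ← map_one (realRep ρ), ← hx.1]; congr 1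
      simp [pow_succ, mul_assoc]
    have e : (realRep ρ x - 1) * (realRep ρ x * realRep ρ x + realRep ρ x + 1)
        = (realRep ρ x - 1) * 0 := by
      rw [mul_zero]; simp only [mul_add, sub_mul, mul_one, one_mul, h3]; abel
    have := hu.mul_left_cancel e
    unfold Ord3
    linear_combination (norm := noncomm_ring) this
  have hA3 := hord a ha
  have hB3 := hord b hb
  have hai : realRep ρ a⁻¹ = -A - 1 := by rw [Rep.inv_eq ha, map_mul]; exact hA3
  have hbi : realRep ρ b⁻¹ = -B - 1 := by rw [Rep.inv_eq hb, map_mul]; exact hB3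
  have hsq : (A - B) * (A - B) = -1 - (realRep ρ (a * b) + realRep ρ (a * b)⁻¹) := by
    rw [_root_.mul_inv_rev, map_mul, map_mul, hai, hbi, ← hA, ← hB]
    unfold Ord3 at hA3 hB3
    simp only [mul_add, mul_sub, add_mul, sub_mul, mul_neg, neg_mul, one_mul, mul_one, ← hA, ← hB,
      show A * A = -A - 1 from hA3, show B * B = -B - 1 from hB3]
    abel
  set w := (A - B) *ᵥ y with hw
  have hw0 : w ≠ 0 := by
    intro e
    have hu : IsUnit (A - B) := by
      have e : A - B = realRep ρ b * (realRep ρ (b⁻¹ * a) - 1) := by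
        rw [mul_sub, mul_one, ← map_mul, mul_inv_cancel_left]
      rw [e]
      exact ((Group.isUnit b).map _).mul
        (realRep_fpf ρ hf (fun e => hba (inv_mul_eq_one.1 e)))
    exact hy (Matrix.mulVec_injective_iff_isUnit.2 hu (e.trans (mulVec_zero _).symm))
  have hww : (A - B) *ᵥ w = (-1 - t) • y := by
    rw [hw, mulVec_mulVec, hsq, sub_mulVec, ht, neg_mulVec, one_mulVec, sub_smul, neg_smul,
      one_smul]
  have hpos := form_pos ρ hw0
  have key : form ρ w w = (1 + t) * form ρ y y := by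
    conv_lhs => arg 2; rw [hw, sub_mulVec]
    rw [form_sub_left, hA, hB, form_adjoint, form_adjoint, hai, hbi, ← form_sub_right,
      ← sub_mulVec, show -realRep ρ a - 1 - (-realRep ρ b - 1) = -(A - B) by rw [hA, hB]; abel,
      neg_mulVec, hww, ← neg_smul, form_smul_right]
    ring
  nlinarith [form_pos ρ hy]

theorem exists_eigen {g : G} {l : ℕ} [Nonempty ι] (hn : 3 ≤ orderOf g)
    (hl : l.Coprime (orderOf g)) (hlo : orderOf g ≤ 3 * l) (hhi : 2 * l < orderOf g) :
    ∃ (t : ℝ) (y : ι → ℝ), t ≤ -1 ∧ y ≠ 0 ∧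
      (realRep ρ g + realRep ρ g⁻¹) *ᵥ y = t • y := by
  set n := orderOf g with hn'
  set θ : ℝ := 2 * Real.pi * (l / n) with hθ
  set z : ℂ := Complex.exp (θ * Complex.I) with hz
  have hn0 : n ≠ 0 := by omega
  have hzp : IsPrimitiveRoot z n := by
    have := Complex.isPrimitiveRoot_exp_of_coprime l n hn0 hl
    convert this using 2
    rw [hθ]; push_cast; ring
  have hnR : (0 : ℝ) < n := by exact_mod_cast Nat.pos_of_ne_zero hn0
  have hlow : 2 * Real.pi / 3 ≤ θ := by
    rw [hθ]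
    have : (1 : ℝ) / 3 ≤ l / n := by
      rw [div_le_div_iff₀ (by norm_num) hnR, one_mul, mul_comm]
      exact_mod_cast hlo
    nlinarith [Real.pi_pos]
  have hhigh : θ < Real.pi := by
    rw [hθ]
    have : (2 : ℝ) * (l / n) < 1 := by
      rw [← mul_div_assoc, div_lt_one hnR]; exact_mod_cast hhi
    nlinarith [Real.pi_pos]
  have hre : z.re = Real.cos θ := by rw [hz, Complex.exp_ofReal_mul_I_re]
  have him : z.im ≠ 0 := by
    rw [hz, Complex.exp_ofReal_mul_I_im]
    exact (Real.sin_pos_of_pos_of_lt_pi (by linarith [Real.pi_pos]) hhigh).ne'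
  have hcos : Real.cos θ ≤ -(1 / 2) := by
    have h3 : Real.cos (2 * Real.pi / 3) = -(1 / 2) := by
      rw [show 2 * Real.pi / 3 = Real.pi - Real.pi / 3 by ring, Real.cos_pi_sub,
        Real.cos_pi_div_three]
    rw [← h3]
    exact Real.cos_le_cos_of_nonneg_of_le_pi (by positivity) hhigh.le hlow
  have hnorm : ‖z‖ = 1 := by rw [hz, Complex.norm_exp_ofReal_mul_I]
  have hroot : aeval z (cyclotomic n ℝ) = 0 := by
    rw [Polynomial.aeval_def, ← Polynomial.eval_map, map_cyclotomic]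
    exact hzp.isRoot_cyclotomic (Nat.pos_of_ne_zero hn0)
  obtain ⟨p, hp⟩ := quadratic_dvd_of_aeval_eq_zero_im_ne_zero (cyclotomic n ℝ) hroot him
  rw [hnorm, hre, one_pow, map_one] at hp
  set q : ℝ[X] := X ^ 2 - C (2 * Real.cos θ) * X + 1 with hq
  have hqd : q.natDegree = 2 := by rw [hq]; compute_degree!
  have hp0 : p ≠ 0 := fun e => cyclotomic_ne_zero n ℝ (by rw [hp, e, mul_zero])
  have hpd : p.natDegree < n.totient := by
    have := congrArg natDegree hp
    rw [natDegree_cyclotomic, natDegree_mul (fun e => by rw [e] at hqd; simp at hqd) hp0, hqd]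
      at this
    omega
  obtain ⟨w, hw⟩ := exists_ne (0 : ι → ℚ)
  set wr : ι → ℝ := fun j => algebraMap ℚ ℝ (w j)
  set y := aeval (realRep ρ g) p *ᵥ wr with hy
  have hy0 : y ≠ 0 := fun e => hp0 (real_annihilates ρ hf hpd hw e)
  have hq0 : aeval (realRep ρ g) q *ᵥ y = 0 := by
    rw [hy, mulVec_mulVec, ← map_mul, ← hp]
    have : aeval (realRep ρ g) (cyclotomic n ℝ)
        = ((algebraMap ℚ ℝ).mapMatrix : Matrix ι ι ℚ →+* _) (aeval (ρ g) (cyclotomic n ℚ)) := by
      rw [← map_cyclotomic n (algebraMap ℚ ℝ), aeval_map_algebraMap]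
      exact (aeval_algHom_apply ((Algebra.ofId ℚ ℝ).mapMatrix : Matrix ι ι ℚ →ₐ[ℚ] Matrix ι ι ℝ)
        (ρ g) _)
    rw [this, hn', aeval_cyclotomic_order ρ hf, map_zero, zero_mulVec]
  refine ⟨2 * Real.cos θ, y, by linarith, hy0, ?_⟩
  have hq' : aeval (realRep ρ g) q
      = realRep ρ g * realRep ρ g - (2 * Real.cos θ) • realRep ρ g + 1 := by
    simp [hq, pow_two, Algebra.smul_def]
  rw [hq'] at hq0
  have h := congrArg (fun v => realRep ρ g⁻¹ *ᵥ v) hq0
  simp only [mulVec_mulVec, mulVec_zero, mul_add, mul_sub, mul_one, mul_smul_comm, ← mul_assoc,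
    ← map_mul, inv_mul_cancel, one_mul, map_one] at h
  simp only [add_mulVec, sub_mulVec, smul_mulVec, one_mulVec] at h ⊢
  rw [sub_add_eq_add_sub, sub_eq_zero] at h
  exact h

theorem pair_invariant [Nonempty ι] (a b : G) (ha : IsOrd3 a) (hb : IsOrd3 b) (hne : b ≠ a)
    (hne' : b ≠ a⁻¹) :
    cc (ρ a) (ρ b) = 0 ∨ cc (ρ a) (ρ b) = 1 ∨
      cc (ρ a) (ρ b) * cc (ρ a) (ρ b) = cc (ρ a) (ρ b) + 1 := by
  have hord : ∀ x : G, IsOrd3 x → Ord3 (ρ x) := by
    intro x hx
    have h3 : ρ x * (ρ x * ρ x) = 1 := by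
      rw [← map_mul, ← map_mul, ← map_one ρ, ← hx.1]; congr 1; simp [pow_succ, mul_assoc]
    have e : (ρ x - 1) * (ρ x * ρ x + ρ x + 1) = (ρ x - 1) * 0 := by
      rw [mul_zero]; simp only [mul_add, sub_mul, mul_one, one_mul, h3]; abel
    have := (hf x hx.2).mul_left_cancel e
    unfold Ord3
    linear_combination (norm := noncomm_ring) this
  have hA := hord a ha
  have hB := hord b hb
  obtain ⟨g, hg⟩ : ∃ g, g = a * b := ⟨_, rfl⟩
  have hc : cc (ρ a) (ρ b) = ρ g + ρ g⁻¹ := by
    rw [hg, _root_.mul_inv_rev, Rep.inv_eq ha, Rep.inv_eq hb]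
    simp only [cc, map_mul, show ρ a * ρ a = -ρ a - 1 from hA, show ρ b * ρ b = -ρ b - 1 from hB,
      mul_sub, sub_mul, mul_neg, neg_mul, one_mul, mul_one]
    abel
  have hg1 : g ≠ 1 := fun e => hne' (eq_inv_of_mul_eq_one_right (hg ▸ e))
  have hord2 : orderOf g ≠ 2 := by
    intro h2
    obtain ⟨w, hw⟩ := exists_ne (0 : ι → ℝ)
    have hgg : g * g = 1 := by rw [← pow_two, ← h2, pow_orderOf_eq_one]
    have hm : ρ g = -1 := by
      have e : (ρ g - 1) * (ρ g + 1) = (ρ g - 1) * 0 := by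
        rw [mul_zero, sub_mul, mul_add, mul_one, one_mul, ← map_mul, hgg, map_one]; abel
      have := (hf g hg1).mul_left_cancel e
      linear_combination (norm := noncomm_ring) this
    have hm' : realRep ρ g = -1 := by
      change ((algebraMap ℚ ℝ).mapMatrix : Matrix ι ι ℚ →+* _) (ρ g) = _
      rw [hm, map_neg, map_one]
    have := lambda_gt ρ hf ha hb hne hw (t := -2) (by
      rw [← hg, inv_eq_of_mul_eq_one_right hgg, hm', add_mulVec, neg_mulVec, one_mulVec]
      module)
    norm_num at this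
  have hn3 : 3 ≤ orderOf g := by
    have := orderOf_pos g
    have : orderOf g ≠ 1 := fun e => hg1 (orderOf_eq_one_iff.1 e)
    omega
  by_cases h4 : orderOf g = 4
  · left
    have h := aeval_cyclotomic_order ρ hf (g := g)
    rw [h4, show (4 : ℕ) = 2 ^ (1 + 1) by norm_num, cyclotomic_prime_pow_eq_geom_sum Nat.prime_two]
      at h
    simp [Finset.sum_range_succ] at h
    rw [hc]
    have h' := congrArg (fun t => ρ g⁻¹ * t) h
    simp only [mul_add, mul_one, mul_zero, pow_two, ← mul_assoc, ← map_mul, inv_mul_cancel, map_one,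
      one_mul] at h'
    linear_combination (norm := noncomm_ring) h'
  by_cases h6 : orderOf g = 6
  · right; left
    have h := aeval_cyclotomic_order ρ hf (g := g)
    rw [h6, Polynomial.cyclotomic_six] at h
    simp at h
    rw [hc]
    have h' := congrArg (fun t => ρ g⁻¹ * t) h
    simp only [mul_add, mul_sub, mul_one, mul_zero, pow_two, ← mul_assoc, ← map_mul, inv_mul_cancel,
      map_one, one_mul] at h'
    linear_combination (norm := noncomm_ring) h'
  by_cases h10 : orderOf g = 10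
  · right; right
    have e1 : g ^ 5 ≠ 1 := fun e => by
      have := orderOf_le_of_pow_eq_one (by norm_num) e; omega
    have e2 : g ^ 2 ≠ 1 := fun e => by
      have := orderOf_le_of_pow_eq_one (by norm_num) e; omega
    have h5 : ρ g ^ 5 = -1 := by
      have h10' : g ^ 10 = 1 := h10 ▸ pow_orderOf_eq_one g
      have e : (ρ (g ^ 5) - 1) * (ρ (g ^ 5) + 1) = (ρ (g ^ 5) - 1) * 0 := by
        rw [mul_zero, sub_mul, mul_add, mul_one, one_mul, ← map_mul, ← pow_add, h10', map_one]; abel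
      have := (hf _ e1).mul_left_cancel e
      rw [← map_pow]
      linear_combination (norm := noncomm_ring) this
    have hu : IsUnit (ρ g + 1) := by
      have hu2 : IsUnit ((ρ g + 1) * (ρ g - 1)) := by
        have := hf _ e2
        convert this using 1
        rw [pow_two, map_mul]; noncomm_ring
      exact ((((Commute.refl (ρ g)).sub_right (Commute.one_right _)).add_left
        (Commute.one_left _)).isUnit_mul_iff.1 hu2).1
    have hq : ρ g ^ 4 - ρ g ^ 3 + ρ g ^ 2 - ρ g + 1 = 0 := by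
      refine hu.mul_left_cancel ?_
      rw [mul_zero]
      linear_combination (norm := noncomm_ring) h5
    rw [hc]
    have hgi : ρ g * ρ g⁻¹ = 1 := by rw [← map_mul, mul_inv_cancel, map_one]
    have hig : ρ g⁻¹ * ρ g = 1 := by rw [← map_mul, inv_mul_cancel, map_one]
    have hgi' := assoc_rule hgi
    have hig' := assoc_rule hig
    have h' := congrArg (fun t => ρ g⁻¹ * (ρ g⁻¹ * t)) hq
    simp only [mul_add, mul_sub, mul_one, mul_zero, pow_succ, pow_zero, one_mul, mul_assoc, hig,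
      hig'] at h'
    simp only [mul_add, add_mul, hgi, hig]
    linear_combination (norm := noncomm_ring) h'
  exfalso
  obtain ⟨l, hl, hlo, hhi⟩ := exists_coprime_low hn3 h4 h6 h10
  obtain ⟨t, y, ht, hy, hy'⟩ := exists_eigen ρ hf hn3 hl hlo hhi
  have := lambda_gt ρ hf ha hb hne hy (hg ▸ hy')
  linarith

/-- A rational fixed-point-free representation satisfies the pair condition. -/
noncomputable def toRep [Nonempty ι] : Rep G (Matrix ι ι ℚ) where
  ρ := ρ
  fpf := hf
  pair := pair_invariant ρ hf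

end Cfsg.Agent.PermP.Zass
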