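import Mathlib
import Cfsg.Agent.PermP.ZassRep
import Cfsg.Agent.FGS.FrobLift
import Cfsg.Agent.FGS.FrobEven
import Cfsg.Agent.Recog.Icosahedral
import Cfsg.Agent.TwoGroups.UniqueInvolution
import Cfsg.Agent.S0106
import Cfsg.Agent.S3378

/-!
# Zassenhaus: a perfect Frobenius complement is `SL(2,5)`
-/

set_option autoImplicit false
set_option linter.all false
set_option maxHeartbeats 1000000

namespace Cfsg.Agent.PermP.Zass

open Subgroup
open Cfsg.Agent.Recog.Icosahedral

universe u

theorem isUnit_map_sub_one {R S : Type*} [Ring R] [Ring S] (F : R →+* S) (x : R)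
    (h : IsUnit (x - 1)) : IsUnit (F x - 1) := by
  simpa using h.map F

/-- A Frobenius complement has a rational fixed-point-free representation. -/
theorem exists_rat_rep {G : Type u} [Group G] [Finite G] (h : FGS.FC.IsFC G) :
    ∃ (n : ℕ) (ρ : G →* Matrix (Fin n) (Fin n) ℚ),
      0 < n ∧ ∀ g : G, g ≠ 1 → IsUnit (ρ g - 1) := by
  classical
  haveI := Fintype.ofFinite G
  obtain ⟨r, hr, hrd, V, _, _, _, _, f, hf⟩ := FGS.FC.exists_module_of_isFC h
  haveI := Fact.mk hr
  obtain ⟨x, hx0, hx⟩ := FGS.FC.exists_int_vector hrd f hf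
  let W : Submodule ℚ (G → ℚ) :=
    { carrier := {y | ∀ h : G, h ≠ 1 → ∀ g : G,
        ∑ i ∈ Finset.range (orderOf h), y ((h ^ i)⁻¹ * g) = 0}
      add_mem' := fun hy hz h hh g => by simp [Finset.sum_add_distrib, hy h hh g, hz h hh g]
      zero_mem' := fun h hh g => by simp
      smul_mem' := fun c y hy h hh g => by simp [← Finset.mul_sum, hy h hh g] }
  have hWst : ∀ a : G, ∀ y ∈ W, (fun g => y (a⁻¹ * g)) ∈ W := by
    intro a y hy h hh g
    have hh' : a⁻¹ * h * a ≠ 1 := fun e => hh (by
      have e' : a * (a⁻¹ * h * a) * a⁻¹ = h := by group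
      rw [← e', e]; group)
    have h1 := hy _ hh' (a⁻¹ * g)
    rw [show orderOf (a⁻¹ * h * a) = orderOf h by simpa using (MulAut.conj a⁻¹).orderOf_eq h] at h1
    rw [← h1]
    refine Finset.sum_congr rfl fun i _ => ?_
    rw [show (a⁻¹ * h * a) ^ i = a⁻¹ * h ^ i * a by
      simpa using (conj_pow (a := a⁻¹) (b := h) (i := i))]
    congr 1
    group
  let T : G →* Module.End ℚ W :=
    { toFun := fun a =>
        { toFun := fun y => ⟨fun g => (y : G → ℚ) (a⁻¹ * g), hWst a y y.2⟩
          map_add' := fun y z => rfl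
          map_smul' := fun c y => rfl }
      map_one' := LinearMap.ext fun y => Subtype.ext (funext fun g => by
        change (y : G → ℚ) ((1 : G)⁻¹ * g) = (y : G → ℚ) g
        rw [inv_one, one_mul])
      map_mul' := fun a b => LinearMap.ext fun y => Subtype.ext (funext fun g => by
        change (y : G → ℚ) ((a * b)⁻¹ * g) = (y : G → ℚ) (b⁻¹ * (a⁻¹ * g))
        rw [mul_inv_rev, mul_assoc]) }
  haveI : Nontrivial W := by
    obtain ⟨g0, hg0⟩ := Function.ne_iff.1 hx0
    refine ⟨⟨⟨fun g => (x g : ℚ), fun h hh g => ?_⟩, 0, fun h0 => hg0 ?_⟩⟩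
    · rw [← Int.cast_sum, hx h hh g, Int.cast_zero]
    · have := congrFun (congrArg Subtype.val h0) g0
      simpa using this
  let bs := Module.finBasis ℚ W
  refine ⟨Module.finrank ℚ W,
    ((LinearMap.toMatrixAlgEquiv bs).toAlgHom.toRingHom.toMonoidHom).comp T,
    Module.finrank_pos, fun a ha => ?_⟩
  have hinj : Function.Injective (T a - 1 : Module.End ℚ W) := by
    rw [← LinearMap.ker_eq_bot, LinearMap.ker_eq_bot']
    intro y hy
    rw [LinearMap.sub_apply, Module.End.one_apply, sub_eq_zero] at hy
    have hinv : ∀ g, (y : G → ℚ) (a⁻¹ * g) = (y : G → ℚ) g := fun g =>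
      congrFun (congrArg Subtype.val hy) g
    have hinv' : ∀ (i : ℕ) g, (y : G → ℚ) ((a ^ i)⁻¹ * g) = (y : G → ℚ) g := by
      intro i
      induction i with
      | zero => intro g; simp
      | succ i ih => intro g; rw [pow_succ, mul_inv_rev, mul_assoc, hinv, ih]
    refine Subtype.ext (funext fun g => ?_)
    have := y.2 a ha g
    simp only [hinv', Finset.sum_const, Finset.card_range, nsmul_eq_mul] at this
    exact (mul_eq_zero.1 this).resolve_left (Nat.cast_ne_zero.2 (orderOf_pos a).ne')
  have hu : IsUnit (T a - 1 : Module.End ℚ W) :=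
    (Module.End.isUnit_iff _).2 ⟨hinj, LinearMap.injective_iff_surjective.1 hinj⟩
  exact isUnit_map_sub_one (LinearMap.toMatrixAlgEquiv bs).toAlgHom.toRingHom (T a) hu

/-- Odd-order `p`-subgroups of a Frobenius complement are cyclic. -/
theorem isCyclic_of_isPGroup {G : Type u} [Group G] [Finite G] (h : FGS.FC.IsFC G) {p : ℕ}
    [Fact p.Prime] (hp : p ≠ 2) {S : Subgroup G} (hS : IsPGroup p S) : IsCyclic S := by
  obtain ⟨L, _, _, H, hH, ⟨e⟩⟩ := h
  obtain ⟨Q, hQ⟩ := (hS.map e.toMonoidHom).exists_le_sylow
  haveI : IsCyclic (Q : Subgroup H) := FGS.FC.isCyclic_sylow_of_odd hH hp Q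
  haveI : IsCyclic (S.map e.toMonoidHom) := Subgroup.isCyclic_of_le hQ
  exact (S.equivMapOfInjective e.toMonoidHom e.injective).isCyclic.2 inferInstance

section perfect

variable {G : Type u} [Group G] (hperf : commutator G = ⊤)

include hperf

theorem hom_trivial_of_solvable {M : Type*} [Group M] [Group.IsSolvable M] (f : G →* M) (g : G) :
    f g = 1 := by
  by_contra hg
  haveI : Nontrivial f.range :=
    ⟨⟨⟨f g, g, rfl⟩, 1, fun e => hg (congrArg Subtype.val e)⟩⟩
  have hlt := Group.IsSolvable.commutator_lt_top_of_nontrivial (G := f.range)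
  have : commutator f.range = ⊤ := by
    have h1 := congrArg (Subgroup.map f.rangeRestrict) hperf
    rw [commutator_def, Subgroup.map_commutator,
      Subgroup.map_top_of_surjective f.rangeRestrict f.rangeRestrict_surjective] at h1
    exact h1
  exact hlt.ne this

theorem eq_top_of_solvable_quotient (N : Subgroup G) [N.Normal] [Group.IsSolvable (G ⧸ N)] :
    N = ⊤ :=
  eq_top_iff.2 fun g _ =>
    (QuotientGroup.eq_one_iff g).1 (hom_trivial_of_solvable hperf (QuotientGroup.mk' N) g)

theorem eq_top_of_index_le_two [Finite G] {C : Subgroup G} (hC : C.index ≤ 2) : C = ⊤ := by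
  have h0 : C.index ≠ 0 := Subgroup.index_ne_zero_of_finite
  rcases (show C.index = 1 ∨ C.index = 2 by omega) with h | h
  · exact Subgroup.index_eq_one.1 h
  haveI := Subgroup.normal_of_index_eq_two h
  haveI : Fact (Nat.Prime 2) := ⟨Nat.prime_two⟩
  haveI : IsCyclic (G ⧸ C) := isCyclic_of_prime_card (p := 2) h
  letI : CommGroup (G ⧸ C) := IsCyclic.commGroup
  exact eq_top_of_solvable_quotient hperf C

end perfect

theorem solvable_perm_le_four {X : Type*} [Finite X] (h : Nat.card X ≤ 4) :
    Group.IsSolvable (Equiv.Perm X) := by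
  classical
  haveI := Fintype.ofFinite X
  haveI : Group.IsSolvable (Equiv.Perm (Fin 4)) :=
    S3378.solvable_card_24 (by rw [Nat.card_perm, Nat.card_fin]; rfl)
  rw [Nat.card_eq_fintype_card] at h
  let i : X ↪ Fin 4 := (Fintype.equivFin X).toEmbedding.trans (Fin.castLEEmb h)
  exact Group.isSolvable_of_isSolvable_injective (Equiv.Perm.viaEmbeddingHom_injective i)

/-- The scalar `-1` of `SL(2,5)`. -/
def slNeg : Matrix.SpecialLinearGroup (Fin 2) (ZMod 5) := ⟨!![4, 0; 0, 4], by decide⟩

theorem sl_involution : ∀ g : Matrix.SpecialLinearGroup (Fin 2) (ZMod 5),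
    g * g = 1 → g = 1 ∨ g = slNeg := by decide +kernel

theorem sl_center : ∀ g : Matrix.SpecialLinearGroup (Fin 2) (ZMod 5),
    g * slX = slX * g → g * slY = slY * g → g = 1 ∨ g = slNeg := by decide +kernel

theorem sl_normal_closure : ∀ g : Matrix.SpecialLinearGroup (Fin 2) (ZMod 5), g ≠ 1 →
    g = slNeg ∨ ∃ h : Matrix.SpecialLinearGroup (Fin 2) (ZMod 5),
      let c := g * (h * g⁻¹ * h⁻¹)
      c = slNeg ∨ c * c = slNeg ∨ c * c * c = slNeg ∨ c * c * c * c * c = slNeg := by
  decide +kernel

theorem sl_count : ((Finset.univ : Finset (Matrix.SpecialLinearGroup (Fin 2) (ZMod 5))).filter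
    fun g => g * g * g = 1 ∧ g ≠ 1).card = 20 := by decide +kernel

theorem slNeg_mem_of_ne_bot (N : Subgroup (Matrix.SpecialLinearGroup (Fin 2) (ZMod 5))) [N.Normal]
    (hN : N ≠ ⊥) : slNeg ∈ N := by
  obtain ⟨g, hg, hg1⟩ := (N.ne_bot_iff_exists_ne_one.1 hN).elim fun x hx =>
    (⟨x.1, x.2, fun e => hx (Subtype.ext e)⟩ : ∃ g, g ∈ N ∧ g ≠ 1)
  rcases sl_normal_closure g hg1 with h | ⟨h, hh⟩
  · exact h ▸ hg
  have hc : g * (h * g⁻¹ * h⁻¹) ∈ N :=
    mul_mem hg (Subgroup.Normal.conj_mem inferInstance _ (inv_mem hg) h)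
  rcases hh with e | e | e | e <;> rw [← e]
  · exact hc
  · exact mul_mem hc hc
  · exact mul_mem (mul_mem hc hc) hc
  · exact mul_mem (mul_mem (mul_mem (mul_mem hc hc) hc) hc) hc

variable {G : Type u} [Group G] [Finite G]

/-- A pair with irrational invariant generates a copy of `SL(2,5)`. -/
theorem bpair_sl {R : Type*} [Ring R] [Algebra ℚ R] [Nontrivial R] (P : Rep G R) {a b : G}
    (ha : IsOrd3 a) (hb : b ∈ P.B a) :
    ∃ (z : G) (e : ↥(closure ({a, b} : Set G)) ≃* Matrix.SpecialLinearGroup (Fin 2) (ZMod 5)),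
      P.ρ z = -1 ∧ z ∈ closure ({a, b} : Set G) ∧
      ∃ i ∈ closure ({a, b} : Set G), i * i = z := by
  classical
  obtain ⟨hm, h5⟩ := P.bpair_rel ha hb
  set H := closure ({a, b} : Set G) with hH
  obtain ⟨X, hX⟩ : ∃ X, X = a * b * (a * b) := ⟨_, rfl⟩
  obtain ⟨z, hz⟩ : ∃ z, z = (a * b) ^ 5 := ⟨_, rfl⟩
  rw [← hX] at hm
  rw [← hz] at h5
  have haH : a ∈ H := subset_closure (Set.mem_insert _ _)
  have hbH : b ∈ H := subset_closure (Set.mem_insert_of_mem _ rfl)
  have hXH : X ∈ H := hX ▸ mul_mem (mul_mem haH hbH) (mul_mem haH hbH)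
  have hzH : z ∈ H := hz ▸ pow_mem (mul_mem haH hbH) 5
  have hmm : a * X * (a * X) = z := P.injective (by rw [hm, h5])
  have hzz : z * z = 1 := P.injective (by rw [map_mul, h5, map_one, neg_mul_neg, one_mul])
  have hz1 : z ≠ 1 := fun e => by
    rw [e, map_one] at h5
    exact Rep.two_ne (R := R) (by linear_combination (norm := (noncomm_ring <;> norm_num [zsmul_eq_mul, nsmul_eq_mul] <;> noncomm_ring)) h5)
  have hzc : ∀ g : G, g * z = z * g := fun g =>
    P.injective (by rw [map_mul, map_mul, h5, mul_neg_one, neg_one_mul])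
  have hX5 : X ^ 5 = 1 := by
    rw [hX, ← pow_two, ← pow_mul, show 2 * 5 = 5 + 5 by norm_num, pow_add, ← hz]
    exact hzz
  let a' : H := ⟨a, haH⟩
  let X' : H := ⟨X, hXH⟩
  have hsq : (a' * X') ^ 2 = ⟨z, hzH⟩ := by
    apply Subtype.ext
    rw [pow_two]
    exact hmm
  have hHX : H = closure ({a, X} : Set G) := by
    have haK : a ∈ closure ({a, X} : Set G) := subset_closure (Set.mem_insert a {X})
    have hXK : X ∈ closure ({a, X} : Set G) := subset_closure (Set.mem_insert_of_mem a rfl)
    have hzK : z ∈ closure ({a, X} : Set G) :=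
      hmm ▸ mul_mem (mul_mem haK hXK) (mul_mem haK hXK)
    have e : a * b = z * (X ^ 2)⁻¹ := by
      rw [eq_mul_inv_iff_mul_eq, hX, hz]
      simp only [pow_succ, pow_zero, one_mul, mul_assoc]
    have hab : a * b ∈ closure ({a, X} : Set G) := by
      rw [e]; exact mul_mem hzK (inv_mem (pow_mem hXK 2))
    have hbK : b ∈ closure ({a, X} : Set G) := by
      have := mul_mem (inv_mem haK) hab
      rwa [inv_mul_cancel_left] at this
    apply le_antisymm
    · rw [hH, closure_le]
      exact Set.insert_subset haK (Set.singleton_subset_iff.2 hbK)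
    · rw [closure_le]
      exact Set.insert_subset haH (Set.singleton_subset_iff.2 hXH)
  have hgen : closure ({a', X'} : Set H) = ⊤ := by
    refine Subgroup.map_injective H.subtype_injective ?_
    rw [MonoidHom.map_closure, Set.image_pair, ← MonoidHom.range_eq_map, Subgroup.range_subtype]
    exact hHX.symm
  have hrel : ∀ w ∈ slRels, FreeGroup.lift ![a', X', (a' * X') ^ 2] w = 1 := by
    simp only [slRels, Set.mem_insert_iff, Set.mem_singleton_iff, forall_eq_or_imp, forall_eq,
      map_pow, map_mul, map_inv, FreeGroup.lift_apply_of, Matrix.cons_val_zero,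
      Matrix.cons_val_one, Matrix.cons_val]
    rw [hsq]
    refine ⟨Subtype.ext ha.1, Subtype.ext hX5, Subtype.ext (by simpa [pow_two] using hzz), ?_, ?_,
      mul_inv_cancel _⟩ <;>
      rw [mul_inv_eq_one] <;> apply Subtype.ext <;> simp [mul_assoc, hzc]
  let f := PresentedGroup.toGroup hrel
  have hsurj : Function.Surjective f := by
    rw [← MonoidHom.range_eq_top, eq_top_iff, ← hgen, closure_le]
    rintro g (rfl | rfl)
    · exact ⟨PresentedGroup.of 0, PresentedGroup.toGroup.of hrel⟩
    · exact ⟨PresentedGroup.of 1, PresentedGroup.toGroup.of hrel⟩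
  obtain ⟨e₀⟩ := presented_sl_iso
  let f' : Matrix.SpecialLinearGroup (Fin 2) (ZMod 5) →* H := f.comp e₀.symm.toMonoidHom
  have hinj : Function.Injective f' := by
    rw [← MonoidHom.ker_eq_bot_iff]
    by_contra hne
    have hneg : f' slNeg = 1 := slNeg_mem_of_ne_bot _ hne
    obtain ⟨-, -, h3, h4, -, -⟩ := presented_sl_rel
    have hw : f (PresentedGroup.of 2) = ⟨z, hzH⟩ := by
      rw [← h3, map_pow, map_mul, PresentedGroup.toGroup.of, PresentedGroup.toGroup.of]
      simpa using hsq
    set w := e₀ (PresentedGroup.of 2) with hwdef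
    have hw' : f' w = ⟨z, hzH⟩ := by
      simp [f', hwdef, hw]
    rcases sl_involution w (by rw [hwdef, ← map_mul, ← pow_two, h4, map_one]) with hw1 | hw1
    · rw [hw1, map_one] at hw'
      exact hz1 (congrArg Subtype.val hw').symm
    · rw [hw1, hneg] at hw'
      exact hz1 (congrArg Subtype.val hw').symm
  let e := (MulEquiv.ofBijective f' ⟨hinj, hsurj.comp e₀.symm.surjective⟩).symm
  exact ⟨z, e, h5, hzH, a * X, mul_mem haH hXH, hmm⟩

/-- Structure of a Frobenius complement containing a pair with irrational invariant. -/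
theorem bpair_structure (hFC : FGS.FC.IsFC G) {n : ℕ} [Nonempty (Fin n)]
    (P : Rep G (Matrix (Fin n) (Fin n) ℚ)) {a b : G} (ha : IsOrd3 a) (hbB : b ∈ P.B a) :
    ∃ (z : G) (e : ↥(closure ({a, b} : Set G)) ≃* Matrix.SpecialLinearGroup (Fin 2) (ZMod 5)),
      (closure ({a, b} : Set G)).Normal ∧ P.ρ z = -1 ∧ z ∈ closure ({a, b} : Set G) ∧
      (closure ({a, b} : Set G) ⊔ centralizer (closure ({a, b} : Set G) : Set G)).index ≤ 2 ∧
      IsZGroup (centralizer (closure ({a, b} : Set G) : Set G)) ∧
      (∀ x : G, IsOrd3 x → x ∈ closure ({a, b} : Set G)) ∧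
      (∀ y ∈ closure ({a, b} : Set G), y ∈ centralizer (closure ({a, b} : Set G) : Set G) →
        y = 1 ∨ y = z) ∧
      (∀ y ∈ centralizer (closure ({a, b} : Set G) : Set G), y ^ 2 ≠ z) := by
  classical
  haveI : Fact (Nat.Prime 2) := ⟨Nat.prime_two⟩
  have huniq : ∀ x : G, x * x = 1 → x ≠ 1 → P.ρ x = -1 := by
    intro x hx hx1
    have e : (P.ρ x - 1) * (P.ρ x + 1) = (P.ρ x - 1) * 0 := by
      rw [mul_zero, sub_mul, mul_add, mul_one, one_mul, ← map_mul, hx, map_one]; abel
    have := (P.fpf x hx1).mul_left_cancel e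
    linear_combination (norm := (noncomm_ring <;> norm_num [zsmul_eq_mul, nsmul_eq_mul] <;> noncomm_ring)) this
  set H := closure ({a, b} : Set G) with hH
  obtain ⟨z, e, hz, hzH, i, hiH, hii⟩ := bpair_sl P ha hbB
  -- the subgroup generated by the pair
  have haH : a ∈ H := subset_closure (Set.mem_insert _ _)
  have hbH : b ∈ H := subset_closure (Set.mem_insert_of_mem _ rfl)
  have hcard : Nat.card H = 120 := (Nat.card_congr e.toEquiv).trans nat_card_SL
  have hall : ∀ x : G, IsOrd3 x → x ∈ H := by
    have h20 := (P.ncard_ord3 ha).1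
    have hge : 20 ≤ ({x : G | IsOrd3 x} ∩ (H : Set G)).ncard := by
      rw [← sl_count, ← Set.ncard_coe_finset]
      refine Set.ncard_le_ncard_of_injOn (fun g => (e.symm g : G)) (fun g hg => ?_)
        (fun g _ g' _ h => e.symm.injective (Subtype.ext h))
      simp only [Finset.coe_filter, Finset.mem_univ, true_and, Set.mem_setOf_eq] at hg
      refine ⟨⟨?_, fun h => hg.2 ?_⟩, (e.symm g).2⟩
      · have := congrArg (fun y => (e.symm y : G)) hg.1
        simpa [pow_succ, mul_assoc] using this
      · rw [← e.apply_symm_apply g, show e.symm g = 1 from Subtype.ext h, map_one]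
    intro x hx
    have := Set.eq_of_subset_of_ncard_le (Set.inter_subset_left (t := (H : Set G))) (h20.trans hge)
    exact ((Set.ext_iff.1 this x).2 hx).2
  haveI hHn : H.Normal := by
    have hcl : ∀ g : G, H.map (MulAut.conj g).toMonoidHom ≤ H := fun g => by
      rw [hH, MonoidHom.map_closure, closure_le, Set.image_pair]
      exact Set.insert_subset (hall _ (Rep.isOrd3_conj ha g))
        (Set.singleton_subset_iff.2 (hall _ (Rep.isOrd3_conj hbB.1 g)))
    exact ⟨fun y hy g => hcl g ⟨y, hy, rfl⟩⟩
  set C := centralizer (H : Set G) with hC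
  have hmemC : ∀ y : G, y ∈ C ↔ y * a = a * y ∧ y * b = b * y := by
    intro y
    constructor
    · exact fun hy => ⟨(mem_centralizer_iff.1 hy a haH).symm, (mem_centralizer_iff.1 hy b hbH).symm⟩
    · rintro ⟨h1, h2⟩
      refine mem_centralizer_iff.2 fun w hw => ?_
      have hle : H ≤ centralizer ({y} : Set G) := (closure_le _).2
        (Set.insert_subset (mem_centralizer_singleton_iff.2 h1.symm)
          (Set.singleton_subset_iff.2 (mem_centralizer_singleton_iff.2 h2.symm)))
      exact mem_centralizer_singleton_iff.1 (hle hw)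
  have hC120 : C.index ≤ 120 := by
    let Pr : Set (G × G) := {q | IsOrd3 q.1 ∧ q.2 ∈ P.B q.1}
    have hmemPr : ∀ y : G, (y * a * y⁻¹, y * b * y⁻¹) ∈ Pr := fun y => by
      refine ⟨Rep.isOrd3_conj ha y, Rep.isOrd3_conj hbB.1 y, ?_⟩
      have e1 : P.ρ y⁻¹ * P.ρ y = 1 := by rw [← map_mul, inv_mul_cancel, map_one]
      rw [P.inv3_conj]
      calc P.ρ y * P.inv3 a b * P.ρ y⁻¹ * (P.ρ y * P.inv3 a b * P.ρ y⁻¹)
          = P.ρ y * (P.inv3 a b * (P.ρ y⁻¹ * P.ρ y) * P.inv3 a b) * P.ρ y⁻¹ := by
            simp only [mul_assoc]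
        _ = P.ρ y * (P.inv3 a b + 1) * P.ρ y⁻¹ := by rw [e1, mul_one, hbB.2]
        _ = _ := by
            rw [mul_add, mul_one, add_mul]
            congr 1
            rw [← map_mul, mul_inv_cancel, map_one]
    let ψ : G ⧸ C → Pr := Quotient.lift (fun y => ⟨_, hmemPr y⟩) (by
      intro y y' he
      obtain ⟨e1, e2⟩ := (hmemC _).1 (QuotientGroup.leftRel_apply.1 he)
      apply Subtype.ext
      have hy' : y' = y * (y⁻¹ * y') := by group
      have k : ∀ w, (y⁻¹ * y') * w = w * (y⁻¹ * y') → y * w * y⁻¹ = y' * w * y'⁻¹ := by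
        intro w hw
        rw [hy', mul_inv_rev]
        calc y * w * y⁻¹ = y * (w * (y⁻¹ * y') * (y⁻¹ * y')⁻¹) * y⁻¹ := by group
          _ = _ := by rw [← hw]; simp [mul_assoc]
      exact Prod.ext (k a e1) (k b e2))
    have hψ : Function.Injective ψ := by
      intro q q'
      induction q using QuotientGroup.induction_on with
      | H y =>
        induction q' using QuotientGroup.induction_on with
        | H y' =>
          intro he
          obtain ⟨e1, e2⟩ := Prod.ext_iff.1 (congrArg Subtype.val he)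
          rw [QuotientGroup.eq]
          have k : ∀ w, y * w * y⁻¹ = y' * w * y'⁻¹ → y⁻¹ * y' * w = w * (y⁻¹ * y') := fun w hw => by
            calc y⁻¹ * y' * w = y⁻¹ * (y' * w * y'⁻¹) * y' := by group
              _ = w * (y⁻¹ * y') := by rw [← hw]; group
          exact (hmemC _).2 ⟨k a e1, k b e2⟩
    calc C.index = Nat.card (G ⧸ C) := rfl
      _ ≤ Nat.card Pr := Nat.card_le_card_of_injective ψ hψ
      _ ≤ 120 := by
        rw [Nat.card_coe_set_eq]
        have hfib : ∀ x, IsOrd3 x → (P.B x).ncard ≤ 6 := fun x hx => by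
          refine (Set.ncard_le_ncard_of_injOn _ (P.B_inj hx).1 (P.B_inj hx).2).trans ?_
          rcases P.T_subset hx with ⟨c, hc⟩ | ⟨⟨c, d, hcd⟩, -⟩
          · exact ((Set.ncard_le_ncard hc).trans (Rep.ncard_rot_le x c)).trans (by norm_num)
          · exact (Set.ncard_le_ncard hcd).trans ((Set.ncard_union_le _ _).trans
              (Nat.add_le_add (Rep.ncard_rot_le x c) (Rep.ncard_rot_le x d)))
        haveI := Fintype.ofFinite G
        let F : Finset G := Finset.univ.filter IsOrd3
        have hF : F.card ≤ 20 := by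
          refine le_of_eq_of_le ?_ (P.ncard_ord3 ha).1
          rw [← Set.ncard_coe_finset]
          congr 1
          ext x; simp [F]
        calc Pr.ncard ≤ (↑(F.biUnion fun x => ({x} : Finset G) ×ˢ (P.B x).toFinite.toFinset) :
              Set (G × G)).ncard := by
              refine Set.ncard_le_ncard (fun q hq => ?_) (Finset.finite_toSet _)
              simp only [Finset.coe_biUnion, Set.mem_iUnion, Finset.mem_coe, Finset.mem_product,
                Finset.mem_singleton, Set.Finite.mem_toFinset]
              exact ⟨q.1, by simp [F, hq.1], rfl, hq.2⟩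
          _ ≤ F.card * 6 := by
              rw [Set.ncard_coe_finset]
              refine Finset.card_biUnion_le_card_mul _ _ _ fun x hx => ?_
              rw [Finset.card_product, Finset.card_singleton, one_mul,
                ← Set.ncard_eq_toFinset_card]
              exact hfib x (by simpa [F] using hx)
          _ ≤ 120 := by omega
  -- the centre of the generated subgroup
  have hcentre : ∀ y ∈ H, y ∈ C → y = 1 ∨ y = z := by
    intro y hy hyC
    have hc : ∀ w : H, (⟨y, hy⟩ : H) * w = w * ⟨y, hy⟩ := fun w =>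
      Subtype.ext ((mem_centralizer_iff.1 hyC w.1 w.2).symm)
    have hcs : ∀ s, e ⟨y, hy⟩ * s = s * e ⟨y, hy⟩ := fun s => by
      have := congrArg e (hc (e.symm s))
      simpa using this
    have hzneg : e ⟨z, hzH⟩ = slNeg := by
      rcases sl_involution (e ⟨z, hzH⟩) (by
        rw [← map_mul, ← map_one e]
        congr 1
        exact Subtype.ext (P.injective (by
          change P.ρ (z * z) = P.ρ 1
          rw [map_mul, hz, map_one, neg_mul_neg, one_mul]))) with h | h
      · rw [← map_one e] at h
        have hz1 : z = 1 := congrArg Subtype.val (e.injective h)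
        rw [hz1, map_one] at hz
        exact absurd (by linear_combination (norm := (noncomm_ring <;> norm_num [zsmul_eq_mul, nsmul_eq_mul] <;> noncomm_ring)) hz) (Rep.two_ne (R := _))
      · exact h
    rcases sl_center (e ⟨y, hy⟩) (hcs _) (hcs _) with h | h
    · rw [← map_one e] at h; exact Or.inl (congrArg Subtype.val (e.injective h))
    · rw [← hzneg] at h; exact Or.inr (congrArg Subtype.val (e.injective h))
  -- `G = H C`
  haveI : C.Normal := by
    rw [hC]; infer_instance
  have hsup : (H ⊔ C).index ≤ 2 := by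
    have h1 : C.relIndex (H ⊔ C) * (H ⊔ C).index = C.index :=
      Subgroup.relIndex_mul_index le_sup_right
    have h2 : C.relIndex (H ⊔ C) = C.relIndex H := by rw [Subgroup.relIndex_sup_right]
    have h4 : Nat.card (C.subgroupOf H) ≤ 2 := by
      calc Nat.card (C.subgroupOf H) ≤ Nat.card ({1, z} : Set G) :=
            Nat.card_le_card_of_injective (fun y => ⟨y.1.1, hcentre y.1.1 y.1.2 y.2⟩)
              fun y y' h => Subtype.ext (Subtype.ext (congrArg (fun t : ({1, z} : Set G) => t.1) h))
        _ ≤ 2 := by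
          rw [Nat.card_coe_set_eq]; exact (Set.ncard_insert_le _ _).trans (by simp)
    have h5 := (C.subgroupOf H).card_mul_index
    rw [hcard] at h5
    change Nat.card (C.subgroupOf H) * C.relIndex H = 120 at h5
    have h6 : 60 ≤ C.relIndex H := by
      by_contra h
      push Not at h
      nlinarith
    rw [h2] at h1
    nlinarith
  have two : ∀ y : G, y ^ 2 = 1 → y = 1 ∨ y = z := fun y hy => by
    by_cases h1 : y = 1
    · exact Or.inl h1
    · exact Or.inr (P.injective ((huniq y (by rw [← pow_two]; exact hy) h1).trans hz.symm))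
  have hC4 : ∀ y ∈ C, y ^ 2 ≠ z := by
    intro y hyC hy2z
    have hyi : (y * i) * (y * i) = 1 := by
      have hcom : i * y = y * i := mem_centralizer_iff.1 hyC i hiH
      calc (y * i) * (y * i) = y * (i * y) * i := by simp only [mul_assoc]
        _ = y ^ 2 * (i * i) := by rw [hcom, pow_two]; simp only [mul_assoc]
        _ = 1 := P.injective (by rw [hy2z, hii, map_mul, hz, map_one, neg_mul_neg, one_mul])
    have hyiH : y * i ∈ H := by
      rcases two (y * i) (by rw [pow_two]; exact hyi) with h | h <;> rw [h]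
      · exact one_mem _
      · exact hzH
    have hyH : y ∈ H := by simpa using mul_mem hyiH (inv_mem hiH)
    have hy2 : y ^ 2 = 1 := by
      rcases hcentre y hyH hyC with h | h <;> rw [h]
      · exact one_pow 2
      · exact P.injective (by rw [map_pow, hz, map_one, pow_two, neg_mul_neg, one_mul])
    rw [hy2z] at hy2
    rw [hy2, map_one] at hz
    exact Rep.two_ne (R := Matrix (Fin n) (Fin n) ℚ)
      (by linear_combination (norm := (noncomm_ring <;> norm_num [zsmul_eq_mul, nsmul_eq_mul] <;> noncomm_ring)) hz)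
  -- the centraliser has cyclic Sylow subgroups
  haveI : IsZGroup C := ⟨fun p hp Q => by
    haveI := Fact.mk hp
    haveI : IsCyclic ((Q : Subgroup C).map C.subtype) := by
      by_cases h : p = 2
      swap
      · exact isCyclic_of_isPGroup hFC h (Q.isPGroup'.map _)
      subst h
      have hQ := (Q.isPGroup'.map C.subtype)
      have hle : ∀ x ∈ (Q : Subgroup C).map C.subtype, x = 1 ∨ x = z := by
        intro x hx
        have hxC : x ∈ C := map_subtype_le _ hx
        obtain ⟨k, hk⟩ := hQ ⟨x, hx⟩
        have hk' : x ^ (2 ^ k) = 1 := congrArg Subtype.val hk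
        clear hk
        have two : ∀ y, y ^ 2 = 1 → y = 1 ∨ y = z := fun y hy => by
          by_cases h1 : y = 1
          · exact Or.inl h1
          · exact Or.inr (P.injective ((huniq y (by rw [← pow_two]; exact hy) h1).trans hz.symm))
        suffices x ^ 2 = 1 from two x this
        by_contra hx2
        have : ∃ j, (x ^ 2 ^ j) ^ 2 = z := by
          clear hxC hx
          induction k generalizing x with
          | zero => exact absurd (by rw [pow_zero, pow_one] at hk'; rw [hk', one_pow]) hx2
          | succ k ih =>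
            by_cases h4 : (x ^ 2) ^ 2 = 1
            · exact ⟨0, by rw [pow_zero, pow_one]; exact (two _ h4).resolve_left hx2⟩
            · obtain ⟨j, hj⟩ := ih (x ^ 2) (by rw [← pow_mul, ← pow_succ']; exact hk') h4
              exact ⟨j + 1, by rw [show 2 ^ (j + 1) = 2 * 2 ^ j from pow_succ' 2 j, pow_mul]; exact hj⟩
        obtain ⟨j, hj⟩ := this
        exact hC4 _ (pow_mem hxC _) hj
      obtain ⟨m, hm⟩ := IsPGroup.iff_card.1 hQ
      have hle2 : Nat.card ((Q : Subgroup C).map C.subtype) ≤ 2 := by
        calc Nat.card ((Q : Subgroup C).map C.subtype) ≤ Nat.card ({1, z} : Set G) :=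
            Nat.card_le_card_of_injective (fun y => ⟨y.1, hle y.1 y.2⟩)
              fun y y' h => Subtype.ext (congrArg (fun t : ({1, z} : Set G) => t.1) h)
          _ ≤ 2 := by rw [Nat.card_coe_set_eq]; exact (Set.ncard_insert_le _ _).trans (by simp)
      have hpos : 0 < Nat.card ((Q : Subgroup C).map C.subtype) := Nat.card_pos
      refine isCyclic_of_card_dvd_prime (p := 2) ?_
      interval_cases Nat.card ((Q : Subgroup C).map C.subtype) <;> norm_num
    exact ((Q : Subgroup C).equivMapOfInjective _ C.subtype_injective).isCyclic.2 inferInstance⟩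
  exact ⟨z, e, hHn, hz, hzH, hsup, inferInstance, hall, hcentre, hC4⟩

/-- A perfect nontrivial Frobenius complement is isomorphic to `SL(2,5)`. -/
theorem perfect_isFC_equiv_sl [Nontrivial G] (hFC : FGS.FC.IsFC G)
    (hperf : commutator G = ⊤) :
    Nonempty (G ≃* Matrix.SpecialLinearGroup (Fin 2) (ZMod 5)) := by
  classical
  obtain ⟨n, ρ, hn, hf⟩ := exists_rat_rep hFC
  haveI : Nonempty (Fin n) := ⟨⟨0, hn⟩⟩
  let P := toRep ρ hf
  have hunit : ∀ g : G, g ≠ 1 → IsUnit (P.ρ g - 1) := P.fpf
  have huniq : ∀ x : G, x * x = 1 → x ≠ 1 → P.ρ x = -1 := by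
    intro x hx hx1
    have e : (P.ρ x - 1) * (P.ρ x + 1) = (P.ρ x - 1) * 0 := by
      rw [mul_zero, sub_mul, mul_add, mul_one, one_mul, ← map_mul, hx, map_one]; abel
    have := (hunit x hx1).mul_left_cancel e
    linear_combination (norm := (noncomm_ring <;> norm_num [zsmul_eq_mul, nsmul_eq_mul] <;> noncomm_ring)) this
  haveI : Fact (Nat.Prime 2) := ⟨Nat.prime_two⟩
  haveI : Fact (Nat.Prime 3) := ⟨Nat.prime_three⟩
  -- an element of order three exists
  have h3 : 3 ∣ Nat.card G := by
    by_contra h3
    obtain ⟨S⟩ : Nonempty (Sylow 2 G) := inferInstance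
    by_cases h2 : 2 ∣ Nat.card G
    · have hS : (S : Subgroup G) ≠ ⊥ := S.ne_bot_of_dvd_card h2
      have hmin : (Nat.card G).minFac = 2 := by
        rw [Nat.minFac_eq_two_iff]; exact h2
      rcases TwoGroups.cyclic_or_quaternion_of_unique_involution S.isPGroup'
          (fun x y hx hy => Subtype.ext (P.injective (by
            rw [huniq x.1 (by rw [← Subgroup.coe_mul, ← pow_two]; exact congrArg Subtype.val (show x ^ 2 = 1 from (orderOf_dvd_iff_pow_eq_one.1 hx.dvd)))
                  (fun e => by rw [orderOf_eq_one_iff.2 (Subtype.ext e)] at hx; norm_num at hx),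
              huniq y.1 (by rw [← Subgroup.coe_mul, ← pow_two]; exact congrArg Subtype.val (show y ^ 2 = 1 from (orderOf_dvd_iff_pow_eq_one.1 hy.dvd)))
                  (fun e => by rw [orderOf_eq_one_iff.2 (Subtype.ext e)] at hy; norm_num at hy)])))
        with hc | ⟨k, hk, -, he⟩
      · have hcompl := hc.isComplement' hmin
        letI := hc.commGroup
        have hker : (MonoidHom.transferSylow S (hc.normalizer_le_centralizer hmin)).ker = ⊤ :=
          eq_top_iff.2 fun g _ => hom_trivial_of_solvable hperf _ g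
        rw [hker] at hcompl
        exact hS (isComplement'_top_left.1 hcompl)
      · rcases S0106.result S (k - 1) (by omega) he with ⟨Q, N, hN, hc⟩ | ⟨A, K, hK, ⟨e⟩⟩
        · haveI := hN
          have hpg : IsPGroup 2 (G ⧸ N) := by
            obtain ⟨m, hm⟩ := IsPGroup.iff_card.1 Q.isPGroup'
            exact IsPGroup.of_card (n := m) (hc.symm.index_eq_card.trans hm)
          haveI := hpg.isNilpotent
          have hNt := eq_top_of_solvable_quotient hperf N
          subst hNt
          exact (Q.ne_bot_of_dvd_card h2) (isComplement'_top_left.1 hc)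
        · apply h3
          have h24 : 3 ∣ Nat.card (↥A ⧸ K.subgroupOf A) := by
            rw [Nat.card_congr e.toEquiv, Nat.card_eq_fintype_card]
            decide +kernel
          exact h24.trans ((Subgroup.card_quotient_dvd_card _).trans (Subgroup.card_subgroup_dvd_card _))
    · haveI : IsZGroup G := ⟨fun p hp Q => by
        haveI := Fact.mk hp
        by_cases h : p = 2
        · subst h
          have : (Q : Subgroup G) = ⊥ := by
            by_contra hQ
            haveI := (Subgroup.nontrivial_iff_ne_bot _).2 hQ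
            obtain ⟨m, hm, hcard⟩ := Q.isPGroup'.nontrivial_iff_card.1 inferInstance
            exact h2 ((dvd_pow_self 2 hm.ne').trans (hcard ▸ Subgroup.card_subgroup_dvd_card _))
          haveI : Subsingleton (Q : Subgroup G) := this ▸ inferInstance
          infer_instance
        · exact isCyclic_of_isPGroup hFC h Q.isPGroup'⟩
      exact (IsZGroup.commutator_lt (G := G)).ne hperf
  obtain ⟨a₀, ha₀⟩ := exists_prime_orderOf_dvd_card' (G := G) 3 h3
  have ha₀' : IsOrd3 a₀ := ⟨ha₀ ▸ pow_orderOf_eq_one a₀, fun e => by rw [e] at ha₀; simp at ha₀⟩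
  -- a pair with irrational invariant exists
  obtain ⟨a, b, ha, hbB⟩ : ∃ a b, IsOrd3 a ∧ b ∈ P.B a := by
    by_contra hno
    push Not at hno
    have h8 := (P.ncard_ord3 ha₀').2 fun x y hx hy e => hno x y hx ⟨hy, e⟩
    let Ω := {Q : Subgroup G // Nat.card Q = 3}
    have hgen : ∀ Q : Ω, ∃ g : G, IsOrd3 g ∧ zpowers g = Q.1 := by
      intro Q
      obtain ⟨g, hg⟩ := exists_prime_orderOf_dvd_card' (G := Q.1) 3 Q.2.symm.dvd
      refine ⟨g.1, ⟨by rw [← Subgroup.orderOf_coe] at hg; exact (by have := pow_orderOf_eq_one g.1; rwa [hg] at this),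
        fun e => ?_⟩, ?_⟩
      · rw [← Subgroup.orderOf_coe, e, orderOf_one] at hg; norm_num at hg
      · refine Subgroup.eq_of_le_of_card_ge (zpowers_le.2 g.2) ?_
        rw [Nat.card_zpowers, Subgroup.orderOf_coe, hg, Q.2]
    choose gen hg3 hgQ using hgen
    let m : Ω × Bool → {x : G | IsOrd3 x} := fun q =>
      ⟨bif q.2 then gen q.1 else (gen q.1)⁻¹, by
        cases q.2
        · exact Rep.isOrd3_inv (hg3 q.1)
        · exact hg3 q.1⟩
    have hm : Function.Injective m := by
      rintro ⟨Q, s⟩ ⟨Q', s'⟩ he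
      have he' := congrArg Subtype.val he
      have hQQ : Q = Q' := by
        apply Subtype.ext
        have := congrArg zpowers he'
        cases s <;> cases s' <;> simpa [m, zpowers_inv, hgQ] using this
      subst hQQ
      have hne : gen Q ≠ (gen Q)⁻¹ := fun e => (hg3 Q).2 (by
        calc gen Q = gen Q ^ 3 * (gen Q * gen Q)⁻¹ := by group
          _ = 1 := by rw [(hg3 Q).1, eq_inv_iff_mul_eq_one.1 e]; simp)
      cases s <;> cases s' <;> simp [m] at he' ⊢
      · exact hne he'.symm
      · exact hne he'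
    have hΩ : Nat.card Ω ≤ 4 := by
      have := Nat.card_le_card_of_injective m hm
      rw [Nat.card_prod, Nat.card_eq_fintype_card (α := Bool), Fintype.card_bool,
        Nat.card_coe_set_eq] at this
      omega
    haveI := solvable_perm_le_four hΩ
    letI : MulAction G Ω :=
      { smul := fun g Q => ⟨Q.1.map (MulAut.conj g).toMonoidHom, by
          rw [Subgroup.card_map_of_injective (MulAut.conj g).injective, Q.2]⟩
        one_smul := fun Q => Subtype.ext (by
          change Q.1.map (MulAut.conj (1 : G)).toMonoidHom = Q.1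
          ext x; simp)
        mul_smul := fun g h Q => Subtype.ext (by
          change Q.1.map (MulAut.conj (g * h)).toMonoidHom =
            (Q.1.map (MulAut.conj h).toMonoidHom).map (MulAut.conj g).toMonoidHom
          rw [Subgroup.map_map]
          congr 1
          ext x; simp [mul_assoc]) }
    have hfix : ∀ (g : G) (Q : Ω), g • Q = Q := fun g Q =>
      congrArg (fun σ : Equiv.Perm Ω => σ Q)
        (hom_trivial_of_solvable hperf (MulAction.toPermHom G Ω) g)
    have hcentral : ∀ x : G, IsOrd3 x → ∀ g : G, g * x = x * g := by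
      intro x hx g
      have hox : orderOf x = 3 := orderOf_eq_prime hx.1 hx.2
      let Q : Ω := ⟨zpowers x, by rw [Nat.card_zpowers, hox]⟩
      have hmem : ∀ y : G, y * x * y⁻¹ ∈ ({x, x⁻¹} : Set G) := by
        intro y
        have : y * x * y⁻¹ ∈ (y • Q).1 := ⟨x, mem_zpowers x, rfl⟩
        rw [hfix y Q] at this
        obtain ⟨k, hk⟩ := this
        have hk' : x ^ (k % 3) = y * x * y⁻¹ := by
          rw [← hk]
          have := zpow_mod_orderOf x k
          rw [hox] at this
          exact_mod_cast this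
        have hcases : k % 3 = 0 ∨ k % 3 = 1 ∨ k % 3 = 2 := by omega
        rcases hcases with h | h | h <;> rw [h] at hk'
        · exact absurd (conj_eq_one_iff.1 (show y * x * y⁻¹ = 1 by simpa using hk'.symm)) hx.2
        · exact Or.inl (by simpa using hk'.symm)
        · exact Or.inr (by rw [← hk', Rep.inv_eq hx]; exact (zpow_two x))
      let C := centralizer ({x} : Set G)
      have hC : C.index ≤ 2 := by
        let ψ : G ⧸ C → ({x, x⁻¹} : Set G) := Quotient.lift (fun y => ⟨y * x * y⁻¹, hmem y⟩) (by
          intro y y' he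
          have := Subgroup.mem_centralizer_singleton_iff.1 (QuotientGroup.leftRel_apply.1 he)
          apply Subtype.ext
          change y * x * y⁻¹ = y' * x * y'⁻¹
          have e : y' = y * (y⁻¹ * y') := by group
          rw [e, mul_inv_rev]
          calc y * x * y⁻¹ = y * (x * (y⁻¹ * y') * (y⁻¹ * y')⁻¹) * y⁻¹ := by group
            _ = _ := by rw [← this]; simp [mul_assoc])
        have hψ : Function.Injective ψ := by
          intro q q'
          induction q using QuotientGroup.induction_on with
          | H y =>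
            induction q' using QuotientGroup.induction_on with
            | H y' =>
              intro he
              have he' : y * x * y⁻¹ = y' * x * y'⁻¹ := congrArg Subtype.val he
              rw [QuotientGroup.eq, Subgroup.mem_centralizer_singleton_iff]
              calc y⁻¹ * y' * x = y⁻¹ * (y' * x * y'⁻¹) * y' := by group
                _ = x * (y⁻¹ * y') := by rw [← he']; group
        calc C.index = Nat.card (G ⧸ C) := rfl
          _ ≤ Nat.card ({x, x⁻¹} : Set G) := Nat.card_le_card_of_injective ψ hψ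
          _ ≤ 2 := by
            rw [Nat.card_coe_set_eq]
            exact (Set.ncard_insert_le _ _).trans (by simp)
      have : g ∈ C := by rw [eq_top_of_index_le_two hperf hC]; trivial
      exact Subgroup.mem_centralizer_singleton_iff.1 this
    obtain ⟨S⟩ : Nonempty (Sylow 3 G) := inferInstance
    haveI : IsCyclic (S : Subgroup G) := isCyclic_of_isPGroup hFC (by norm_num) S.isPGroup'
    letI : CommGroup (S : Subgroup G) := IsCyclic.commGroup
    haveI : (zpowers a₀).Normal := ⟨fun y hy g => by
      obtain ⟨k, rfl⟩ := hy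
      have hc : Commute g (a₀ ^ k) := (show Commute g a₀ from hcentral a₀ ha₀' g).zpow_right k
      rw [hc.eq, mul_inv_cancel_right]
      exact ⟨k, rfl⟩⟩
    have ha₀S : a₀ ∈ (S : Subgroup G) :=
      (IsPGroup.of_card (p := 3) (n := 1) (by rw [Nat.card_zpowers, ha₀, pow_one]) :
        IsPGroup 3 (zpowers a₀)).le_sylow_of_normal S (mem_zpowers a₀)
    have key : ∀ (k : ℕ) (g₀ : G), g₀⁻¹ * a₀ ^ k * g₀ ∈ (S : Subgroup G) →
        g₀⁻¹ * a₀ ^ k * g₀ = a₀ ^ k := fun k g₀ _ => by
      rw [mul_assoc, ← ((show Commute g₀ a₀ from hcentral a₀ ha₀' g₀).pow_right k).eq,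
        inv_mul_cancel_left]
    have hone := hom_trivial_of_solvable hperf (MonoidHom.transfer (MonoidHom.id (S : Subgroup G))) a₀
    rw [MonoidHom.transfer_eq_pow _ a₀ key] at hone
    have : a₀ ^ (S : Subgroup G).index = 1 := congrArg Subtype.val hone
    have hdvd := orderOf_dvd_of_pow_eq_one this
    rw [ha₀] at hdvd
    exact S.not_dvd_index hdvd
  obtain ⟨z, e, hHn, -, -, hidx, hZ, -, -, -⟩ := bpair_structure hFC P ha hbB
  set H := closure ({a, b} : Set G) with hH
  haveI := hHn
  haveI := hZ
  set C := centralizer (H : Set G) with hC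
  have hsup : H ⊔ C = ⊤ := eq_top_of_index_le_two hperf hidx
  haveI : Group.IsSolvable (G ⧸ H) := by
    refine Group.isSolvable_of_surjective
      (f := (QuotientGroup.mk' H).comp C.subtype) fun q => ?_
    induction q using QuotientGroup.induction_on with
    | H g =>
      have hg : g ∈ H ⊔ C := hsup ▸ mem_top g
      obtain ⟨h, hh, c, hc, rfl⟩ := Subgroup.mem_sup_of_normal_left.1 hg
      refine ⟨⟨c, hc⟩, ?_⟩
      change (c : G ⧸ H) = ((h * c : G) : G ⧸ H)
      rw [QuotientGroup.mk_mul, (QuotientGroup.eq_one_iff h).2 hh, one_mul]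
  have htop := eq_top_of_solvable_quotient hperf H
  exact ⟨(Subgroup.topEquiv.symm.trans (MulEquiv.subgroupCongr htop.symm)).trans e⟩

/-- Fixed-point-free automorphisms give a Frobenius complement. -/
theorem isFC_of_fpf_mulAut {K : Type*} [Group K] [Finite K] [Nontrivial K] {A : Type*} [Group A]
    [Finite A] [Nontrivial A] (φ : A →* MulAut K)
    (hfpf : ∀ h : A, h ≠ 1 → ∀ k : K, φ h k = k → k = 1) : FGS.FC.IsFC A := by
  haveI : Finite (K ⋊[φ] A) := Finite.of_equiv _ SemidirectProduct.equivProd.symm
  have hcompl : Cfsg.IsFrobeniusComplement (SemidirectProduct.inr : A →* K ⋊[φ] A).range := by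
    refine Frobenius.isFrobeniusComplement_of_ti ?_ ?_ ?_
    · rw [Ne, MonoidHom.range_eq_bot_iff]
      intro h
      obtain ⟨x, hx⟩ := exists_ne (1 : A)
      exact hx (SemidirectProduct.inr_injective (φ := φ)
        ((DFunLike.congr_fun h x).trans (map_one _).symm))
    · intro h
      obtain ⟨v, hv⟩ := exists_ne (1 : K)
      obtain ⟨x, hx⟩ := (h ▸ Subgroup.mem_top (SemidirectProduct.inl v) :
        (SemidirectProduct.inl v : K ⋊[φ] A) ∈ SemidirectProduct.inr.range)
      have := congrArg SemidirectProduct.left hx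
      simp at this
      exact hv this.symm
    · rintro g hg _ ⟨x, rfl⟩ ⟨y, hy⟩
      by_contra hx1
      have hy' : SemidirectProduct.inr y * g = g * SemidirectProduct.inr x := by
        rw [hy]; group
      have hl : φ y g.left = g.left := by simpa using congrArg SemidirectProduct.left hy'
      by_cases hy1 : y = 1
      · rw [hy1, map_one, one_mul, left_eq_mul] at hy'
        exact hx1 hy'
      · refine hg ⟨g.right, ?_⟩
        have hl1 := hfpf y hy1 g.left hl
        ext <;> simp [hl1]
  exact FGS.FC.isFC_transfer _ hcompl (MonoidHom.ofInjective SemidirectProduct.inr_injective)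

end Cfsg.Agent.PermP.Zass
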