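import Mathlib

/-!
Jordan's theorem on cycles of prime length in primitive groups.
-/

set_option autoImplicit false

namespace Cfsg.Agent.PermP

open MulAction Equiv.Perm

variable {α : Type*} [Fintype α] [DecidableEq α]

theorem alternatingGroup_le_of_primeCycle (G : Subgroup (Equiv.Perm α)) (hG : IsPreprimitive G α)
    {p : ℕ} (hp : p.Prime) (hpn : p + 3 ≤ Fintype.card α) {g : Equiv.Perm α} (hgc : g.IsCycle)
    (hgp : g.support.card = p) (hg : g ∈ G) : alternatingGroup α ≤ G := by
  classical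
  haveI := Fact.mk hp
  set S : Set α := (g.support : Set α)ᶜ with hS
  have hScard : S.ncard + p = Fintype.card α := by
    rw [hS, ← hgp, ← Set.ncard_coe_finset, add_comm, Set.ncard_add_ncard_compl,
      Nat.card_eq_fintype_card]
  obtain ⟨n, hn⟩ : ∃ n, S.ncard = n + 1 := ⟨S.ncard - 1, by omega⟩
  have hprim : IsPreprimitive (fixingSubgroup G S) (SubMulAction.ofFixingSubgroup G S) := by
    have := Equiv.Perm.isPretransitive_of_isCycle_mem hgc hg
    apply IsPreprimitive.of_prime_card
    have h1 : Nat.card (SubMulAction.ofFixingSubgroup G S) = Sᶜ.ncard := rfl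
    rw [h1, hS, compl_compl, Set.ncard_coe_finset, hgp]
    exact hp
  have hmp := hG.isMultiplyPreprimitive hn (by
    have := hp.two_le
    rw [Nat.card_eq_fintype_card]; omega) hprim
  have hmt : IsMultiplyPretransitive G α S.ncard := by
    have := hmp.isMultiplyPretransitive
    exact isMultiplyPretransitive_of_le (show S.ncard ≤ n + 2 by omega)
      (by have := hp.two_le; rw [Nat.card_eq_fintype_card]; omega)
  -- every permutation of the fixed points is induced by some element of `G`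
  have hreal : ∀ π : Equiv.Perm α, (∀ x, π x ∈ g.support ↔ x ∈ g.support) →
      ∃ x ∈ G, ∀ y ∈ S, x y = π y := by
    intro π hπ
    let e : Fin S.ncard ↪ α := ((Finset.equivFinOfCardEq (s := S.toFinset)
      (Set.ncard_eq_toFinset_card' S).symm).symm.toEmbedding).trans (Function.Embedding.subtype _)
    rw [isMultiplyPretransitive_iff] at hmt
    obtain ⟨x, hx⟩ := hmt e (e.trans π.toEmbedding)
    refine ⟨x, x.2, fun y hy => ?_⟩
    have := DFunLike.congr_fun hx (Finset.equivFinOfCardEq (s := S.toFinset)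
      (Set.ncard_eq_toFinset_card' S).symm ⟨y, Set.mem_toFinset.2 hy⟩)
    simpa [e, Subgroup.smul_def] using this
  -- Sylow conjugacy inside the pointwise stabiliser of the fixed points
  set F : Subgroup (Equiv.Perm α) := G ⊓ fixingSubgroup (Equiv.Perm α) S with hF
  have hmemF : ∀ y, y ∈ F ↔ y ∈ G ∧ ∀ z, z ∉ g.support → y z = z := by
    intro y
    rw [hF, Subgroup.mem_inf, mem_fixingSubgroup_iff]
    exact Iff.rfl
  have hgF : g ∈ F := (hmemF g).2 ⟨hg, fun z hz => notMem_support.1 hz⟩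
  have hordg : orderOf g = p := by rw [hgc.orderOf, hgp]
  have hFdvd : Nat.card F ∣ p.factorial := by
    have hst : ∀ y : F, ∀ z, (y : Equiv.Perm α) z ∈ g.support ↔ z ∈ g.support := by
      intro y z
      by_cases hz : z ∈ g.support
      · refine iff_of_true ?_ hz
        by_contra h
        have := ((hmemF y).1 y.2).2 _ h
        exact h (by rw [(y : Equiv.Perm α).injective this]; exact hz)
      · rw [((hmemF y).1 y.2).2 z hz]
    let r : F →* Equiv.Perm {z // z ∈ g.support} :=
      MonoidHom.mk' (fun y => (y : Equiv.Perm α).subtypePerm (hst y)) fun a b => by ext z; rfl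
    have hr : Function.Injective r := by
      intro a b h
      ext z
      by_cases hz : z ∈ g.support
      · exact congrArg Subtype.val (DFunLike.congr_fun h ⟨z, hz⟩)
      · rw [((hmemF a).1 a.2).2 z hz, ((hmemF b).1 b.2).2 z hz]
    have := Subgroup.card_dvd_of_injective r hr
    rwa [Nat.card_perm, Nat.card_eq_finsetCard, hgp] at this
  have hfac : (Nat.card F).factorization p = 1 := by
    apply le_antisymm
    · refine le_trans ((Nat.factorization_le_iff_dvd Nat.card_pos.ne' (Nat.factorial_ne_zero p)).2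
        hFdvd p) ?_
      obtain ⟨m, rfl⟩ : ∃ m, p = m + 1 := ⟨p - 1, by have := hp.pos; omega⟩
      rw [Nat.factorial_succ, Nat.factorization_mul (by omega) (Nat.factorial_ne_zero m),
        Finsupp.add_apply, hp.factorization_self,
        Nat.factorization_eq_zero_of_not_dvd (fun h => by have := (hp.dvd_factorial).1 h; omega)]
    · have : p ∣ Nat.card F := by
        have h := orderOf_dvd_natCard (⟨g, hgF⟩ : F)
        rwa [Subgroup.orderOf_mk, hordg] at h
      exact hp.factorization_pos_of_dvd Nat.card_pos.ne' this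
  let mkSylow : ∀ h : F, orderOf h = p → Sylow p F := fun h hh =>
    Sylow.ofCard (Subgroup.zpowers h) (by rw [Nat.card_zpowers, hh, hfac, pow_one])
  have hlift : ∀ π : Equiv.Perm α, (∀ x, π x ∈ g.support ↔ x ∈ g.support) →
      ∃ z ∈ G, (∀ y ∈ S, z y = π y) ∧ ∃ i : ℤ, z * g * z⁻¹ = g ^ i := by
    intro π hπ
    obtain ⟨x, hxG, hxS⟩ := hreal π hπ
    have hconjF : x * g * x⁻¹ ∈ F := by
      refine (hmemF _).2 ⟨G.mul_mem (G.mul_mem hxG hg) (G.inv_mem hxG), fun z hz => ?_⟩
      show x (g (x.symm z)) = z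
      have hz' : π.symm z ∉ g.support := fun h => hz (by simpa using (hπ (π.symm z)).2 h)
      have hx' : x.symm z = π.symm z := by
        rw [Equiv.symm_apply_eq, hxS _ hz', Equiv.apply_symm_apply]
      rw [hx', notMem_support.1 hz', hxS _ hz', Equiv.apply_symm_apply]
    have ho1 : orderOf (⟨g, hgF⟩ : F) = p := by rw [Subgroup.orderOf_mk, hordg]
    have ho2 : orderOf (⟨_, hconjF⟩ : F) = p := by
      rw [Subgroup.orderOf_mk, ← MulAut.conj_apply, MulEquiv.orderOf_eq, hordg]
    obtain ⟨y, hy⟩ := MulAction.exists_smul_eq F (mkSylow _ ho2) (mkSylow _ ho1)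
    have hy' : y * ⟨_, hconjF⟩ * y⁻¹ ∈ Subgroup.zpowers (⟨g, hgF⟩ : F) := by
      have h : y * ⟨_, hconjF⟩ * y⁻¹ ∈ ((mkSylow _ ho1 : Sylow p F) : Subgroup F) := by
        rw [← hy, Sylow.coe_subgroup_smul]
        exact ⟨⟨_, hconjF⟩, Subgroup.mem_zpowers _, rfl⟩
      exact h
    obtain ⟨i, hi⟩ := Subgroup.mem_zpowers_iff.1 hy'
    refine ⟨(y : Equiv.Perm α) * x, G.mul_mem ((hmemF y).1 y.2).1 hxG, fun w hw => ?_, i, ?_⟩
    · show (y : Equiv.Perm α) (x w) = π w
      rw [hxS w hw, ((hmemF y).1 y.2).2]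
      exact fun h => hw ((hπ w).1 h)
    · have := congrArg (Subtype.val) hi
      simp only [Subgroup.coe_zpow, Subgroup.coe_mul, Subgroup.coe_inv] at this
      rw [this]
      simp [mul_assoc]
  obtain ⟨a, b, c, ha, hb, hc, hab, hac, hbc⟩ : ∃ a b c, a ∈ S ∧ b ∈ S ∧ c ∈ S ∧
      a ≠ b ∧ a ≠ c ∧ b ≠ c := by
    have h3 : 2 < S.toFinset.card := by rw [← Set.ncard_eq_toFinset_card']; omega
    obtain ⟨a, b, c, ha, hb, hc, h⟩ := Finset.two_lt_card_iff.1 h3
    exact ⟨a, b, c, Set.mem_toFinset.1 ha, Set.mem_toFinset.1 hb, Set.mem_toFinset.1 hc, h⟩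
  have hswap : ∀ u v : α, u ∈ S → v ∈ S →
      ∀ x, Equiv.swap u v x ∈ g.support ↔ x ∈ g.support := by
    intro u v hu hv x
    rcases eq_or_ne x u with rfl | hxu
    · rw [Equiv.swap_apply_left]; exact iff_of_false hv hu
    rcases eq_or_ne x v with rfl | hxv
    · rw [Equiv.swap_apply_right]; exact iff_of_false hu hv
    rw [Equiv.swap_apply_of_ne_of_ne hxu hxv]
  set π := Equiv.swap a b
  set π' := Equiv.swap b c
  obtain ⟨z, hz, hzS, i, hzi⟩ := hlift π (hswap a b ha hb)
  obtain ⟨z', hz', hz'S, j, hzj⟩ := hlift π' (hswap b c hb hc)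
  set w := (z' * z)⁻¹ * (z * z') with hw
  have hwg : w * g = g * w := by
    have h1 : ∀ (u : Equiv.Perm α) (k : ℤ), u * g * u⁻¹ = g ^ k →
        ∀ m : ℤ, u * g ^ m * u⁻¹ = g ^ (k * m) := by
      intro u k hk m
      rw [← conj_zpow, hk, zpow_mul]
    have e1 : (z * z') * g * (z * z')⁻¹ = g ^ (i * j) :=
      calc (z * z') * g * (z * z')⁻¹ = z * (z' * g * z'⁻¹) * z⁻¹ := by simp [mul_assoc]
        _ = _ := by rw [hzj, h1 z i hzi]
    have e2 : (z' * z) * g * (z' * z)⁻¹ = g ^ (i * j) :=
      calc (z' * z) * g * (z' * z)⁻¹ = z' * (z * g * z⁻¹) * z'⁻¹ := by simp [mul_assoc]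
        _ = _ := by rw [hzi, h1 z' j hzj, mul_comm]
    have e3 := e1.trans e2.symm
    have e4 := congrArg (fun u => (z' * z)⁻¹ * u * (z * z')) e3
    simpa [hw, mul_assoc] using e4
  have hwS : ∀ x ∈ S, w x = (π * π' * (π * π')) x := by
    intro x hx
    have hm : ∀ y, y ∈ S → π y ∈ S := fun y hy h => hy ((hswap a b ha hb y).1 h)
    have hm' : ∀ y, y ∈ S → π' y ∈ S := fun y hy h => hy ((hswap b c hb hc y).1 h)
    show (z' * z).symm (z (z' x)) = π (π' (π (π' x)))
    rw [Equiv.symm_apply_eq, hz'S x hx, hzS _ (hm' x hx)]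
    show π (π' x) = z' (z (π (π' (π (π' x)))))
    have h2 : π (π' (π (π' x))) ∈ S := hm _ (hm' _ (hm _ (hm' x hx)))
    rw [hzS _ h2, hz'S _ (hm _ h2), Equiv.swap_apply_self, Equiv.swap_apply_self]
  -- on the support `w` is a power of `g`
  obtain ⟨a0, ha0⟩ : ∃ a0, a0 ∈ g.support := Finset.card_pos.1 (by rw [hgp]; exact hp.pos)
  have hwsupp : w a0 ∈ g.support := by
    rw [mem_support]
    intro h
    have h' : w (g a0) = w a0 := (DFunLike.congr_fun hwg a0).trans h
    exact mem_support.1 ha0 (w.injective h')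
  obtain ⟨m, hm⟩ := hgc.sameCycle (mem_support.1 ha0) (mem_support.1 hwsupp)
  set u := (g ^ m)⁻¹ * w with hu
  have huG : u ∈ G := G.mul_mem (G.inv_mem (G.zpow_mem hg m))
    (G.mul_mem (G.inv_mem (G.mul_mem hz' hz)) (G.mul_mem hz hz'))
  have hug : Commute u g :=
    ((Commute.refl g).zpow_left m).inv_left.mul_left (show Commute w g from hwg)
  have huS : ∀ x ∈ S, u x = (π * π' * (π * π')) x := by
    intro x hx
    show (g ^ m)⁻¹ (w x) = _
    rw [hwS x hx]
    refine Equiv.symm_apply_eq _ |>.2 ?_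
    refine (notMem_support.1 (fun h => ?_)).symm
    have h' := support_zpow_le g m h
    have hm : ∀ y, y ∈ S → π y ∈ S := fun y hy h => hy ((hswap a b ha hb y).1 h)
    have hm' : ∀ y, y ∈ S → π' y ∈ S := fun y hy h => hy ((hswap b c hb hc y).1 h)
    exact hm _ (hm' _ (hm _ (hm' x hx))) h'
  have hu0 : u a0 = a0 := by
    show (g ^ m)⁻¹ (w a0) = a0
    exact Equiv.symm_apply_eq _ |>.2 hm.symm
  have heq : u = π * π' * (π * π') := by
    ext x
    by_cases hx : x ∈ g.support
    · obtain ⟨k, hk⟩ := hgc.sameCycle (mem_support.1 ha0) (mem_support.1 hx)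
      have h1 : u x = x := by
        have h0 := DFunLike.congr_fun (hug.zpow_right k).eq a0
        simp only [Equiv.Perm.mul_apply, hu0, hk] at h0
        exact h0
      rw [h1]
      have h2 : ∀ y, y ∈ g.support → π y = y ∧ π' y = y := fun y hy =>
        ⟨Equiv.swap_apply_of_ne_of_ne (fun e => ha (e ▸ hy)) (fun e => hb (e ▸ hy)),
          Equiv.swap_apply_of_ne_of_ne (fun e => hb (e ▸ hy)) (fun e => hc (e ▸ hy))⟩
      simp only [Equiv.Perm.mul_apply, (h2 x hx).1, (h2 x hx).2]
    · exact huS x hx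
  have h3 : IsThreeCycle u := by
    rw [heq, show π = Equiv.swap b a from Equiv.swap_comm a b]
    exact IsThreeCycle.isThreeCycle_sq (isThreeCycle_swap_mul_swap_same hab.symm hbc hac)
  exact alternatingGroup_le_of_isPreprimitive_of_isThreeCycle_mem hG h3 huG

end Cfsg.Agent.PermP
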