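import Mathlib

/-!
# Ring identities for the elementary proof of Zassenhaus' theorem

In a ring, elements `A` with `A * A + A + 1 = 0` model elements of order three of a
fixed-point-free group, and `cc A B = A B + B A + A + B + 1`.
-/

set_option autoImplicit false
set_option linter.unusedSimpArgs false
set_option linter.unusedVariables false

namespace Cfsg.Agent.PermP.Zass

variable {R : Type*} [Ring R]


/-- The central invariant of a pair of elements of order three. -/
def cc (x y : R) : R := x * y + y * x + x + y + 1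

/-- The relation satisfied by an element of order three without fixed points. -/
def Ord3 (x : R) : Prop := x * x = -x - 1

theorem assoc_rule {x y z : R} (h : x * y = z) (w : R) : x * (y * w) = z * w := by
  rw [← mul_assoc, h]

theorem cc_comm (x y : R) : cc x y = cc y x := by unfold cc; abel

theorem cc_self {x : R} (h : Ord3 x) : cc x x = -1 := by
  unfold cc; rw [show x * x = -x - 1 from h]; abel

theorem Ord3.sq {x : R} (h : Ord3 x) : Ord3 (x * x) := by
  unfold Ord3 at *
  simp only [h, mul_add, add_mul, mul_sub, sub_mul, mul_neg, neg_mul, one_mul, mul_one]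
  abel

theorem cc_sq_left {x y : R} (h : Ord3 x) : cc (x * x) y = 1 - cc x y := by
  unfold cc
  simp only [show x * x = -x - 1 from h, mul_sub, sub_mul, mul_neg, neg_mul, one_mul, mul_one]
  abel

theorem swap_of {A B : R} (h : cc A B = 1) : B * A = -(A * B) - A - B := by
  linear_combination (norm := (simp only [cc]; noncomm_ring)) h

theorem swap_zero {A B : R} (h : cc A B = 0) : B * A = -(A * B) - A - B - 1 := by
  linear_combination (norm := (simp only [cc]; noncomm_ring)) h

theorem cc_commute {A B : R} (hA : Ord3 A) : cc A B * A = A * cc A B := by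
  have h' := assoc_rule hA
  unfold Ord3 at hA
  simp only [cc, mul_add, add_mul, mul_sub, sub_mul, mul_neg, neg_mul, mul_assoc, one_mul, mul_one,
    neg_neg, hA, h']
  abel

theorem conj_one {A B : R} (hA : Ord3 A) (hB : B * A = -(A * B) - A - B) :
    A * B * (A * A) = B * A - 1 ∧ A * A * B * A = A * B - 1 := by
  have h' := assoc_rule hA
  have hb := assoc_rule hB
  unfold Ord3 at hA
  constructor <;>
  · simp only [mul_add, add_mul, mul_sub, sub_mul, mul_neg, neg_mul, mul_assoc, one_mul, mul_one,
      neg_neg, hA, hB, h', hb]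
    abel

theorem commute_triple {A B D : R} (hA : Ord3 A) (hB : B * A = -(A * B) - A - B)
    (hD : D * A = -(A * D) - A - D) : Commute (cc B D) A := by
  have h' := assoc_rule hA
  have hb := assoc_rule hB
  have hd := assoc_rule hD
  unfold Ord3 at hA
  change cc B D * A = A * cc B D
  simp only [cc, mul_add, add_mul, mul_sub, sub_mul, mul_neg, neg_mul, mul_assoc, one_mul, mul_one,
    neg_neg, hA, hB, hD, h', hb, hd]
  abel

theorem triangle {A B D : R} (hA : Ord3 A) (hBB : Ord3 B) (hDD : Ord3 D)
    (hB : B * A = -(A * B) - A - B) (hD : D * A = -(A * D) - A - D)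
    (hDB : D * B = -(B * D) - B - D) : (D - (B * A - 1)) * (D - (A * B - 1)) = 0 := by
  have h' := assoc_rule hA
  have hb := assoc_rule hB
  have hd := assoc_rule hD
  have hbb := assoc_rule hBB
  have hdd := assoc_rule hDD
  have hdb := assoc_rule hDB
  unfold Ord3 at hA hBB hDD
  simp only [mul_add, add_mul, mul_sub, sub_mul, mul_neg, neg_mul, mul_assoc, one_mul, mul_one,
    neg_neg, hA, hB, hD, hBB, hDD, hDB, h', hb, hd, hbb, hdd, hdb]
  abel

theorem cc_sum {A B D : R} (hA : Ord3 A) (hB : B * A = -(A * B) - A - B)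
    (hD : D * A = -(A * D) - A - D) :
    cc B D + cc B (D * A - 1) + cc B (A * D - 1) = 1 := by
  have h' := assoc_rule hA
  have hb := assoc_rule hB
  have hd := assoc_rule hD
  unfold Ord3 at hA
  simp only [cc, mul_add, add_mul, mul_sub, sub_mul, mul_neg, neg_mul, mul_assoc, one_mul, mul_one,
    neg_neg, hA, hB, hD, h', hb, hd]
  abel

section scalar

variable [Algebra ℚ R]

theorem natCast_mul_cancel {n : ℕ} (hn : n ≠ 0) {x y : R} (h : (n : R) * x = (n : R) * y) :
    x = y := by
  have hu : IsUnit (n : R) := by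
    have : IsUnit ((n : ℚ)) := IsUnit.mk0 _ (Nat.cast_ne_zero.mpr hn)
    simpa using this.map (algebraMap ℚ R)
  exact hu.mul_left_cancel h

theorem ofNat_ne_zero [Nontrivial R] {n : ℕ} (hn : n ≠ 0) : (n : R) ≠ 0 := fun h =>
  one_ne_zero (natCast_mul_cancel (R := R) (x := 1) (y := 0) hn (by rw [h, zero_mul, zero_mul]))

/-- Three pairwise commuting roots of `X² - X - 1` cannot sum to one. -/
theorem three_roots [Nontrivial R] {x y : R} (hxy : Commute x y) (hx : x * x = x + 1)
    (hy : y * y = y + 1) (hz : (1 - x - y) * (1 - x - y) = (1 - x - y) + 1) : False := by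
  have hx' := assoc_rule hx
  have hy' := assoc_rule hy
  have hs : y * x = x * y := hxy.eq.symm
  have hs' := assoc_rule hs
  have h1 : 2 * (x * y) = -1 := by
    simp only [mul_add, add_mul, mul_sub, sub_mul, mul_assoc, one_mul, mul_one, hx, hy, hs] at hz
    linear_combination (norm := (noncomm_ring <;> norm_num [zsmul_eq_mul, nsmul_eq_mul] <;> noncomm_ring)) hz
  have h2 : 4 * y = -1 - 4 * x := by
    have h2' : 4 * ((x * y) * (x * y)) = 1 := by
      calc 4 * ((x * y) * (x * y)) = (2 * (x * y)) * (2 * (x * y)) := by noncomm_ring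
        _ = 1 := by rw [h1]; simp
    simp only [mul_add, add_mul, mul_assoc, one_mul, mul_one, hx, hy, hs, hx', hy', hs'] at h2'
    linear_combination (norm := (noncomm_ring <;> norm_num [zsmul_eq_mul, nsmul_eq_mul] <;> noncomm_ring)) h2' - 2 * h1
  have h3 : 8 * x = -1 := by
    have h3' : 16 * (y * y) = (-1 - 4 * x) * (-1 - 4 * x) := by
      rw [← h2]; noncomm_ring
    have e : (-1 - 4 * x) * (-1 - 4 * x) = 1 + 8 * x + 16 * (x * x) := by noncomm_ring
    rw [hy, e, hx] at h3'
    have h4 : 40 * x + 5 = 0 := by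
      linear_combination (norm := (noncomm_ring <;> norm_num [zsmul_eq_mul, nsmul_eq_mul] <;> noncomm_ring)) 4 * h2 - h3'
    refine natCast_mul_cancel (R := R) (n := 5) (by norm_num) ?_
    linear_combination (norm := (noncomm_ring <;> norm_num [zsmul_eq_mul, nsmul_eq_mul] <;> noncomm_ring)) h4
  have h5 : (8 * x) * (8 * x) = 8 * (8 * x) + 64 := by
    calc (8 * x) * (8 * x) = 64 * (x * x) := by noncomm_ring
      _ = _ := by rw [hx]; noncomm_ring; norm_num
  rw [h3] at h5
  refine ofNat_ne_zero (R := R) (n := 55) (by norm_num) ?_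
  linear_combination (norm := (noncomm_ring <;> norm_num [zsmul_eq_mul, nsmul_eq_mul] <;> noncomm_ring)) -h5

end scalar

section bpair

variable {A B γ : R}

theorem bpair_facts (hA : Ord3 A) (hB : Ord3 B) (hγ : γ * γ = γ + 1) (hc : cc A B = γ) :
    cc A (B * A * (B * B)) = 0 ∧
    B * A * (B * B) + B * B * A * B + A + 1 = (1 - 2 * γ) * B - γ ∧
    B * A * (B * B) - B * B * A * B = A * B - B * A := by
  have hγA : A * γ = γ * A := by rw [← hc, cc_commute hA]
  have hγB : B * γ = γ * B := by rw [← hc, cc_comm A B, cc_commute hB]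
  have hBA : B * A = γ - A * B - A - B - 1 := by
    linear_combination (norm := (simp only [cc]; noncomm_ring)) hc
  have a1 := assoc_rule hA
  have b1 := assoc_rule hB
  have g1 := assoc_rule hγ
  have a2 := assoc_rule hγA
  have b2 := assoc_rule hγB
  have ba := assoc_rule hBA
  unfold Ord3 at hA hB
  refine ⟨?_, ?_, ?_⟩
  all_goals
    simp only [cc, two_mul, mul_add, add_mul, mul_sub, sub_mul, mul_neg, neg_mul, mul_assoc,
      one_mul, mul_one, neg_neg, hA, hB, hγ, hγA, hγB, hBA, a1, b1, g1, a2, b2, ba]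
    abel

theorem bpair_word (hA : Ord3 A) (hB : Ord3 B) (hγ : γ * γ = γ + 1) (hc : cc A B = γ) :
    (A * (A * B * (A * B))) * (A * (A * B * (A * B))) = -1 := by
  have hγA : A * γ = γ * A := by rw [← hc, cc_commute hA]
  have hγB : B * γ = γ * B := by rw [← hc, cc_comm A B, cc_commute hB]
  have hBA : B * A = γ - A * B - A - B - 1 := by
    linear_combination (norm := (simp only [cc]; noncomm_ring)) hc
  have a1 := assoc_rule hA
  have b1 := assoc_rule hB
  have g1 := assoc_rule hγ
  have a2 := assoc_rule hγA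
  have b2 := assoc_rule hγB
  have ba := assoc_rule hBA
  unfold Ord3 at hA hB
  simp only [mul_add, add_mul, mul_sub, sub_mul, mul_neg, neg_mul, mul_assoc,
    one_mul, mul_one, neg_neg, hA, hB, hγ, hγA, hγB, hBA, a1, b1, g1, a2, b2, ba]
  abel

/-- A `B`-partner is determined by the two conjugates it induces. -/
theorem bpair_unique [Algebra ℚ R] {B' γ' : R} (hA : Ord3 A) (hB : Ord3 B) (hB' : Ord3 B')
    (hγ : γ * γ = γ + 1) (hc : cc A B = γ) (hγ' : γ' * γ' = γ' + 1) (hc' : cc A B' = γ')
    (h1 : B * A * (B * B) = B' * A * (B' * B')) (h2 : B * B * A * B = B' * B' * A * B')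
    (hu : IsUnit (B * A * (B * B) - B * B * A * B)) : B = B' := by
  obtain ⟨-, hs, hd⟩ := bpair_facts hA hB hγ hc
  obtain ⟨-, hs', hd'⟩ := bpair_facts hA hB' hγ' hc'
  have hAB : A * B - B * A = A * B' - B' * A := by rw [← hd, ← hd', h1, h2]
  have hss : (1 - 2 * γ) * B - γ = (1 - 2 * γ') * B' - γ' := by rw [← hs, ← hs', h1, h2]
  have hγA : A * γ = γ * A := by rw [← hc, cc_commute hA]
  have hγA' : A * γ' = γ' * A := by rw [← hc', cc_commute hA]
  have e : ∀ g X : R, A * g = g * A →
      A * ((1 - 2 * g) * X - g) - ((1 - 2 * g) * X - g) * A = (1 - 2 * g) * (A * X - X * A) := by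
    intro g X hg
    simp only [two_mul, mul_add, add_mul, mul_sub, sub_mul, ← mul_assoc, one_mul, mul_one, hg]
    abel
  have hq : (1 - 2 * γ) * (A * B - B * A) = (1 - 2 * γ') * (A * B - B * A) := by
    calc (1 - 2 * γ) * (A * B - B * A)
        = A * ((1 - 2 * γ) * B - γ) - ((1 - 2 * γ) * B - γ) * A := (e γ B hγA).symm
      _ = A * ((1 - 2 * γ') * B' - γ') - ((1 - 2 * γ') * B' - γ') * A := by rw [hss]
      _ = (1 - 2 * γ') * (A * B - B * A) := by rw [e γ' B' hγA', hAB]
  rw [← hd] at hq
  have hgg : γ = γ' := by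
    refine natCast_mul_cancel (n := 2) two_ne_zero ?_
    linear_combination (norm := (noncomm_ring <;> norm_num [zsmul_eq_mul, nsmul_eq_mul] <;> noncomm_ring)) -(hu.mul_right_cancel hq)
  subst hgg
  have h5 : (1 - 2 * γ) * (1 - 2 * γ) = 5 := by
    calc (1 - 2 * γ) * (1 - 2 * γ) = 1 - 4 * γ + 4 * (γ * γ) := by noncomm_ring
      _ = 5 := by rw [hγ]; noncomm_ring; norm_num
  refine natCast_mul_cancel (n := 5) (by norm_num) ?_
  rw [Nat.cast_ofNat, ← h5, mul_assoc, mul_assoc]
  congr 1
  linear_combination (norm := (noncomm_ring <;> norm_num [zsmul_eq_mul, nsmul_eq_mul] <;> noncomm_ring)) hss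

end bpair

end Cfsg.Agent.PermP.Zass
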