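import Cfsg.Agent.PermP.ZassWords

/-!
# Elements of order three in a group with a good fixed-point-free representation
-/

set_option autoImplicit false
set_option linter.all false

namespace Cfsg.Agent.PermP.Zass

/-- `x` has order three. -/
def IsOrd3 {G : Type*} [Group G] (x : G) : Prop := x ^ 3 = 1 ∧ x ≠ 1

/-- A fixed-point-free representation in which every pair of elements of order three has one of
the three possible invariants. -/
structure Rep (G : Type*) [Group G] (R : Type*) [Ring R] where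
  ρ : G →* R
  fpf : ∀ g : G, g ≠ 1 → IsUnit (ρ g - 1)
  pair : ∀ a b : G, IsOrd3 a → IsOrd3 b → b ≠ a → b ≠ a⁻¹ →
    cc (ρ a) (ρ b) = 0 ∨ cc (ρ a) (ρ b) = 1 ∨
      cc (ρ a) (ρ b) * cc (ρ a) (ρ b) = cc (ρ a) (ρ b) + 1

variable {G : Type*} [Group G] {R : Type*} [Ring R] [Algebra ℚ R] [Nontrivial R] (P : Rep G R)

namespace Rep

theorem injective : Function.Injective P.ρ := by
  intro x y h
  by_contra hne
  have hu := P.fpf (x⁻¹ * y) (fun e => hne (inv_mul_eq_one.1 e))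
  rw [map_mul, ← h, ← map_mul, inv_mul_cancel, map_one, sub_self] at hu
  exact not_isUnit_zero hu

theorem isUnit_sub {x y : G} (h : x ≠ y) : IsUnit (P.ρ x - P.ρ y) := by
  have e : P.ρ x - P.ρ y = P.ρ y * (P.ρ (y⁻¹ * x) - 1) := by
    rw [mul_sub, mul_one, ← map_mul, mul_inv_cancel_left]
  rw [e]
  exact ((Group.isUnit y).map P.ρ).mul (P.fpf _ (fun e => h (inv_mul_eq_one.1 e).symm))

theorem ord3 {x : G} (hx : IsOrd3 x) : Ord3 (P.ρ x) := by
  have h := P.fpf x hx.2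
  have e : (P.ρ x - 1) * (P.ρ x * P.ρ x + P.ρ x + 1) = (P.ρ x - 1) * 0 := by
    have h3 : P.ρ x * (P.ρ x * P.ρ x) = 1 := by
      rw [← map_mul, ← map_mul, ← map_one P.ρ, ← hx.1]; congr 1; simp [pow_succ, mul_assoc]
    rw [mul_zero]; simp only [mul_add, sub_mul, mul_one, one_mul, h3]; abel
  have := h.mul_left_cancel e
  unfold Ord3
  linear_combination (norm := (noncomm_ring <;> norm_num [zsmul_eq_mul, nsmul_eq_mul] <;> noncomm_ring)) this

/-- The invariant of two group elements. -/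
def inv3 (x y : G) : R := cc (P.ρ x) (P.ρ y)

theorem inv3_comm (x y : G) : P.inv3 x y = P.inv3 y x := cc_comm _ _

theorem inv3_self {x : G} (hx : IsOrd3 x) : P.inv3 x x = -1 := cc_self (P.ord3 hx)

omit [Algebra ℚ R] [Nontrivial R] in
theorem inv_eq {x : G} (hx : IsOrd3 x) : x⁻¹ = x * x :=
  inv_eq_of_mul_eq_one_right (by rw [← hx.1]; simp [pow_succ, mul_assoc])

omit [Algebra ℚ R] [Nontrivial R] in
theorem isOrd3_inv {x : G} (hx : IsOrd3 x) : IsOrd3 x⁻¹ :=
  ⟨by rw [inv_pow, hx.1, inv_one], fun h => hx.2 (inv_eq_one.1 h)⟩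

omit [Algebra ℚ R] [Nontrivial R] in
theorem isOrd3_conj {x : G} (hx : IsOrd3 x) (g : G) : IsOrd3 (g * x * g⁻¹) :=
  ⟨by rw [conj_pow, hx.1]; group, fun h => hx.2 (by simpa using h)⟩

theorem inv3_inv {x : G} (hx : IsOrd3 x) (y : G) : P.inv3 x⁻¹ y = 1 - P.inv3 x y := by
  rw [inv3, inv_eq hx, map_mul]; exact cc_sq_left (P.ord3 hx)

theorem inv3_inv_inv {x y : G} (hx : IsOrd3 x) (hy : IsOrd3 y) :
    P.inv3 x⁻¹ y⁻¹ = P.inv3 x y := by
  rw [P.inv3_inv hx, P.inv3_comm x, P.inv3_inv hy, P.inv3_comm y, sub_sub_cancel]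

theorem inv3_conj (g x y : G) :
    P.inv3 (g * x * g⁻¹) (g * y * g⁻¹) = P.ρ g * P.inv3 x y * P.ρ g⁻¹ := by
  have e : P.ρ g * P.ρ g⁻¹ = 1 := by rw [← map_mul, mul_inv_cancel, map_one]
  have e' : ∀ w, P.ρ g⁻¹ * (P.ρ g * w) = w := fun w => by
    rw [← mul_assoc, ← map_mul, inv_mul_cancel, map_one, one_mul]
  simp only [inv3, cc, map_mul, mul_add, add_mul, mul_one, e, mul_assoc, e']

theorem ne_neg_one_zero : (-1 : R) ≠ 0 := neg_ne_zero.2 one_ne_zero

theorem two_ne : (2 : R) ≠ 0 := by simpa using ofNat_ne_zero (R := R) (n := 2) two_ne_zero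

theorem ne_of_zero {a b : G} (ha : IsOrd3 a) (h : P.inv3 a b = 0) : b ≠ a ∧ b ≠ a⁻¹ := by
  constructor <;> intro e <;> rw [e] at h
  · rw [P.inv3_self ha] at h; exact ne_neg_one_zero h
  · rw [P.inv3_comm, P.inv3_inv ha, P.inv3_self ha] at h
    exact two_ne (R := R) (by linear_combination (norm := (noncomm_ring <;> norm_num [zsmul_eq_mul, nsmul_eq_mul] <;> noncomm_ring)) h)

theorem ne_of_one {a b : G} (ha : IsOrd3 a) (h : P.inv3 a b = 1) : b ≠ a ∧ b ≠ a⁻¹ := by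
  constructor <;> intro e <;> rw [e] at h
  · rw [P.inv3_self ha] at h
    exact two_ne (R := R) (by linear_combination (norm := (noncomm_ring <;> norm_num [zsmul_eq_mul, nsmul_eq_mul] <;> noncomm_ring)) -h)
  · rw [P.inv3_comm, P.inv3_inv ha, P.inv3_self ha] at h
    exact one_ne_zero (α := R) (by linear_combination (norm := (noncomm_ring <;> norm_num [zsmul_eq_mul, nsmul_eq_mul] <;> noncomm_ring)) h)

/-- The partners `b` of `a` with invariant one. -/
def T (a : G) : Set G := {b | IsOrd3 b ∧ P.inv3 a b = 1}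

/-- `d` lies in the orbit of `b` under conjugation by `a`. -/
def Rot (a b d : G) : Prop := d = b ∨ d = a * b * a⁻¹ ∨ d = a⁻¹ * b * a

omit [Algebra ℚ R] [Nontrivial R] in
theorem Rot.symm {a b d : G} (ha : IsOrd3 a) (h : Rot a b d) : Rot a d b := by
  rcases h with rfl | rfl | rfl
  · exact Or.inl rfl
  · exact Or.inr (Or.inr (by group))
  · exact Or.inr (Or.inl (by group))

omit [Algebra ℚ R] [Nontrivial R] in
theorem Rot.trans {a b d e : G} (ha : IsOrd3 a) (h : Rot a b d) (h' : Rot a d e) : Rot a b e := by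
  have hi := inv_eq ha
  have h3 : a * (a * a) = 1 := by rw [← ha.1]; simp [pow_succ, mul_assoc]
  have h3' : ∀ w, a * (a * (a * w)) = w := fun w => by
    calc a * (a * (a * w)) = a * (a * a) * w := by simp only [mul_assoc]
      _ = w := by rw [h3, one_mul]
  rcases h with rfl | rfl | rfl <;> rcases h' with rfl | rfl | rfl
  · exact Or.inl rfl
  · exact Or.inr (Or.inl rfl)
  · exact Or.inr (Or.inr rfl)
  · exact Or.inr (Or.inl rfl)
  · refine Or.inr (Or.inr ?_)
    rw [hi]; simp only [mul_assoc]; rw [h3, mul_one]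
  · exact Or.inl (by group)
  · exact Or.inr (Or.inr rfl)
  · exact Or.inl (by group)
  · refine Or.inr (Or.inl ?_)
    rw [hi]; simp only [mul_assoc]; rw [h3']

theorem rho_rot {a b : G} (ha : IsOrd3 a) (hb : b ∈ P.T a) :
    P.ρ (a * b * a⁻¹) = P.ρ b * P.ρ a - 1 ∧ P.ρ (a⁻¹ * b * a) = P.ρ a * P.ρ b - 1 := by
  obtain ⟨h1, h2⟩ := conj_one (P.ord3 ha) (swap_of hb.2)
  rw [inv_eq ha]
  simp only [map_mul]
  exact ⟨h1, h2⟩

theorem rot_mem {a b d : G} (ha : IsOrd3 a) (hb : b ∈ P.T a) (h : Rot a b d) : d ∈ P.T a := by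
  rcases h with rfl | rfl | rfl
  · exact hb
  · refine ⟨isOrd3_conj hb.1 a, ?_⟩
    have := P.inv3_conj a a b
    rw [show a * a * a⁻¹ = a by group, hb.2, mul_one, ← map_mul, mul_inv_cancel, map_one] at this
    exact this
  · refine ⟨by simpa using isOrd3_conj hb.1 a⁻¹, ?_⟩
    have := P.inv3_conj a⁻¹ a b
    rw [inv_inv, show a⁻¹ * a * a = a by group, hb.2, mul_one, ← map_mul, inv_mul_cancel,
      map_one] at this
    exact this

theorem rot_of_one {a b d : G} (ha : IsOrd3 a) (hb : b ∈ P.T a) (hd : d ∈ P.T a)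
    (h : P.inv3 b d = 1) : d = a * b * a⁻¹ ∨ d = a⁻¹ * b * a := by
  obtain ⟨e1, e2⟩ := P.rho_rot ha hb
  have ht := triangle (P.ord3 ha) (P.ord3 hb.1) (P.ord3 hd.1) (swap_of hb.2) (swap_of hd.2)
    (swap_of h)
  rw [← e1, ← e2] at ht
  by_contra hne
  push Not at hne
  exact not_isUnit_zero (ht ▸ (P.isUnit_sub hne.1).mul (P.isUnit_sub hne.2))

theorem sum3 {a b d : G} (ha : IsOrd3 a) (hb : b ∈ P.T a) (hd : d ∈ P.T a) :
    P.inv3 b d + P.inv3 b (a * d * a⁻¹) + P.inv3 b (a⁻¹ * d * a) = 1 := by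
  obtain ⟨e1, e2⟩ := P.rho_rot ha hd
  unfold inv3
  rw [e1, e2]
  exact cc_sum (P.ord3 ha) (swap_of hb.2) (swap_of hd.2)

theorem zero_or_root {a b d : G} (ha : IsOrd3 a) (hb : b ∈ P.T a) (hd : d ∈ P.T a)
    (h : ¬ Rot a b d) :
    P.inv3 b d = 0 ∨ P.inv3 b d * P.inv3 b d = P.inv3 b d + 1 := by
  have h1 : d ≠ b := fun e => h (Or.inl e)
  have h2 : d ≠ b⁻¹ := fun e => by
    have := hd.2
    rw [e, P.inv3_comm, P.inv3_inv hb.1, P.inv3_comm, hb.2, sub_self] at this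
    exact zero_ne_one this
  rcases P.pair b d hb.1 hd.1 h1 h2 with e | e | e
  · exact Or.inl e
  · exact absurd (Or.inr (P.rot_of_one ha hb hd e)) h
  · exact Or.inr e

theorem exists_zero {a b d : G} (ha : IsOrd3 a) (hb : b ∈ P.T a) (hd : d ∈ P.T a)
    (h : ¬ Rot a b d) : ∃ f, Rot a d f ∧ P.inv3 b f = 0 := by
  by_contra hno
  push Not at hno
  set d1 := a * d * a⁻¹
  set d2 := a⁻¹ * d * a
  have r1 : Rot a d d1 := Or.inr (Or.inl rfl)
  have r2 : Rot a d d2 := Or.inr (Or.inr rfl)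
  have key : ∀ f, Rot a d f → P.inv3 b f * P.inv3 b f = P.inv3 b f + 1 := by
    intro f hf
    refine (P.zero_or_root ha hb (P.rot_mem ha hd hf) (fun hr => h (hr.trans ha (hf.symm ha)))).resolve_left
      (hno f hf)
  have hs := P.sum3 ha hb hd
  have k1 := key d (Or.inl rfl)
  have k2 := key d1 r1
  have k3 := key d2 r2
  have hA : Commute (P.inv3 b d) (P.ρ a) :=
    commute_triple (P.ord3 ha) (swap_of hb.2) (swap_of hd.2)
  have hB : Commute (P.inv3 b d) (P.ρ b) := by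
    change cc (P.ρ b) (P.ρ d) * P.ρ b = P.ρ b * cc (P.ρ b) (P.ρ d)
    exact cc_commute (P.ord3 hb.1)
  have hD : Commute (P.inv3 b d) (P.ρ d) := by
    change cc (P.ρ b) (P.ρ d) * P.ρ d = P.ρ d * cc (P.ρ b) (P.ρ d)
    rw [cc_comm]; exact cc_commute (P.ord3 hd.1)
  have hcomm : Commute (P.inv3 b d) (P.inv3 b d1) := by
    have hd1 : Commute (P.inv3 b d) (P.ρ d1) := by
      rw [(P.rho_rot ha hd).1]; exact (hD.mul_right hA).sub_right (Commute.one_right _)
    exact ((((hB.mul_right hd1).add_right (hd1.mul_right hB)).add_right hB).add_right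
      hd1).add_right (Commute.one_right _)
  have e3 : P.inv3 b d2 = 1 - P.inv3 b d - P.inv3 b d1 := by rw [← hs]; abel
  rw [e3] at k3
  exact three_roots hcomm k1 k2 k3

/-- Two partners orthogonal to a third lie in a common orbit. -/
theorem rot_of_two_zero {a e f h : G} (ha : IsOrd3 a) (he : e ∈ P.T a) (hf : f ∈ P.T a)
    (hh : h ∈ P.T a) (hef : P.inv3 e f = 0) (heh : P.inv3 e h = 0) : Rot a f h := by
  by_contra hfh
  rcases P.zero_or_root ha hf hh hfh with h0 | hB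
  · obtain ⟨hk, hnc⟩ := third_orbit (P.ord3 ha) (P.ord3 he.1) (P.ord3 hf.1) (P.ord3 hh.1)
      he.2 hf.2 hh.2 hef heh h0 _ rfl
    set g : G := a * (e * e) with hg
    have hgi : g⁻¹ = e * (a * a) := by
      rw [hg, mul_inv_rev, ← inv_eq ha, ← inv_eq he.1, inv_inv]
    have hx : IsOrd3 (g * f * g⁻¹) := isOrd3_conj hf.1 g
    have hy : IsOrd3 (h * h) := inv_eq hh.1 ▸ isOrd3_inv hh.1
    set x := g * f * g⁻¹ with hxdef
    have ek : cc (P.ρ a * (P.ρ e * P.ρ e) * P.ρ f * (P.ρ e * (P.ρ a * P.ρ a))) (P.ρ h * P.ρ h)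
        = P.inv3 x (h * h) := by
      rw [hxdef, hgi, hg, inv3]; simp only [map_mul]
    rw [ek] at hk hnc
    by_cases e1 : h * h = x
    · rw [e1, P.inv3_self hx] at hnc
      exact hnc (Commute.neg_one_left _)
    by_cases e2 : h * h = x⁻¹
    · rw [e2, P.inv3_comm, P.inv3_inv hx, P.inv3_self hx] at hnc
      exact hnc (((Commute.one_left _)).sub_left (Commute.neg_one_left _))
    rcases P.pair x (h * h) hx hy e1 e2 with k0 | k0 | k0
    · change P.inv3 x (h * h) = 0 at k0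
      rw [k0] at hk
      exact two_ne (R := R) (by linear_combination (norm := (noncomm_ring <;> norm_num [zsmul_eq_mul, nsmul_eq_mul] <;> noncomm_ring)) -hk)
    · change P.inv3 x (h * h) = 1 at k0
      rw [k0] at hk
      exact two_ne (R := R) (by linear_combination (norm := (noncomm_ring <;> norm_num [zsmul_eq_mul, nsmul_eq_mul] <;> noncomm_ring)) -hk)
    · change P.inv3 x (h * h) * P.inv3 x (h * h) = P.inv3 x (h * h) + 1 at k0
      rw [k0] at hk
      exact one_ne_zero (α := R) (by linear_combination (norm := (noncomm_ring <;> norm_num [zsmul_eq_mul, nsmul_eq_mul] <;> noncomm_ring)) -hk)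
  · obtain ⟨h', hr, h0⟩ := P.exists_zero ha hf hh hfh
    have hrot : cc (P.ρ f) (P.ρ h * P.ρ a - 1) = 0 ∨ cc (P.ρ f) (P.ρ a * P.ρ h - 1) = 0 := by
      rw [← (P.rho_rot ha hh).1, ← (P.rho_rot ha hh).2]
      rcases hr with rfl | rfl | rfl
      · rw [h0, zero_mul, zero_add] at hB
        exact absurd hB zero_ne_one
      · exact Or.inl h0
      · exact Or.inr h0
    exact no_rotated (P.ord3 ha) (P.ord3 he.1) (P.ord3 hf.1) (P.ord3 hh.1) he.2 hf.2 hh.2 hef heh
      hB hrot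

theorem unique_zero {a e f h : G} (ha : IsOrd3 a) (he : e ∈ P.T a) (hf : f ∈ P.T a)
    (hh : h ∈ P.T a) (hef : P.inv3 e f = 0) (heh : P.inv3 e h = 0) : f = h := by
  by_contra hne
  have hne' : ¬ Rot a e f := by
    intro hr
    have hf0 := P.sum3 ha he he
    rcases hr with rfl | hr
    · exact (P.ne_of_zero he.1 hef).1 rfl
    · have hself : P.inv3 e e = -1 := P.inv3_self he.1
      have hA : Commute (P.inv3 e (a * e * a⁻¹)) (P.ρ a) := by
        have := commute_triple (P.ord3 ha) (swap_of he.2)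
          (swap_of (P.rot_mem ha he (Or.inr (Or.inl rfl))).2)
        exact this
      have he' : P.inv3 e (a⁻¹ * e * a) = P.inv3 e (a * e * a⁻¹) := by
        have := P.inv3_conj a⁻¹ (a * e * a⁻¹) e
        rw [inv_inv, show a⁻¹ * (a * e * a⁻¹) * a = e by group] at this
        have hA' : Commute (P.inv3 e (a * e * a⁻¹)) (P.ρ a⁻¹) := by
          rw [show P.ρ a⁻¹ = P.ρ a * P.ρ a by rw [inv_eq ha, map_mul]]
          exact hA.mul_right hA
        rw [this, P.inv3_comm, ← hA'.eq, mul_assoc, ← map_mul, inv_mul_cancel, map_one, mul_one]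
      rw [hself, he'] at hf0
      have h1 : P.inv3 e (a * e * a⁻¹) = 1 := by
        refine natCast_mul_cancel (R := R) (n := 2) two_ne_zero ?_
        rw [Nat.cast_ofNat]
        linear_combination (norm := (noncomm_ring <;> norm_num [zsmul_eq_mul, nsmul_eq_mul] <;> noncomm_ring)) hf0
      rcases hr with rfl | rfl
      · exact zero_ne_one (hef ▸ h1)
      · exact zero_ne_one (hef ▸ he'.trans h1)
  have hr := P.rot_of_two_zero ha he hf hh hef heh
  have hs := P.sum3 ha he hf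
  rcases hr with rfl | rfl | rfl
  · exact hne rfl
  · rw [hef, heh, zero_add, zero_add] at hs
    exact hne' (Rot.trans ha (Or.inr (P.rot_of_one ha he (P.rot_mem ha hf (Or.inr (Or.inr rfl))) hs))
      (Rot.symm ha (Or.inr (Or.inr rfl))))
  · rw [hef, heh, zero_add, add_zero] at hs
    exact hne' (Rot.trans ha (Or.inr (P.rot_of_one ha he (P.rot_mem ha hf (Or.inr (Or.inl rfl))) hs))
      (Rot.symm ha (Or.inr (Or.inl rfl))))

omit [Algebra ℚ R] [Nontrivial R] in
theorem ncard_rot_le (a b : G) : ({d | Rot a b d} : Set G).ncard ≤ 3 := by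
  classical
  calc ({d | Rot a b d} : Set G).ncard
      ≤ (↑({b, a * b * a⁻¹, a⁻¹ * b * a} : Finset G) : Set G).ncard := by
        refine Set.ncard_le_ncard (fun d hd => ?_) (Finset.finite_toSet _)
        simpa [Rot] using hd
    _ ≤ 3 := by rw [Set.ncard_coe_finset]; exact Finset.card_le_three

/-- `T a` has at most six elements, and at most three if no invariant is irrational. -/
theorem T_subset {a : G} (ha : IsOrd3 a) :
    (∃ e, P.T a ⊆ {d | Rot a e d}) ∨ ((∃ e f, P.T a ⊆ {d | Rot a e d} ∪ {d | Rot a f d}) ∧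
      ∃ x y, IsOrd3 x ∧ IsOrd3 y ∧ P.inv3 x y * P.inv3 x y = P.inv3 x y + 1) := by
  by_cases h : ∃ e f, e ∈ P.T a ∧ f ∈ P.T a ∧ ¬ Rot a e f
  · obtain ⟨e, f₀, he, hf₀, hne⟩ := h
    obtain ⟨f, hr, hef⟩ := P.exists_zero ha he hf₀ hne
    have hf : f ∈ P.T a := P.rot_mem ha hf₀ hr
    refine Or.inr ⟨⟨e, f, fun d hd => ?_⟩, ?_⟩
    · by_cases hed : Rot a e d
      · exact Or.inl hed
      · obtain ⟨d', hdr, hed'⟩ := P.exists_zero ha he hd hed
        obtain rfl := P.unique_zero ha he hf (P.rot_mem ha hd hdr) hef hed'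
        exact Or.inr (Rot.symm ha hdr)
    · have hne' : ¬ Rot a e f := fun h => hne (h.trans ha (Rot.symm ha hr))
      have hr1 : Rot a f (a * f * a⁻¹) := Or.inr (Or.inl rfl)
      have hf1 := P.rot_mem ha hf hr1
      refine ⟨e, _, he.1, hf1.1, (P.zero_or_root ha he hf1
        (fun h => hne' (h.trans ha (Rot.symm ha hr1)))).resolve_left fun h0 => ?_⟩
      have heq : f = a * f * a⁻¹ := P.unique_zero ha he hf hf1 hef h0
      have hs := P.sum3 ha he hf
      have h2 : a⁻¹ * f * a = f := by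
        conv_lhs => rw [heq]
        group
      rw [← heq, h2, hef] at hs
      simp at hs
  · push Not at h
    by_cases he : ∃ e, e ∈ P.T a
    · obtain ⟨e, he⟩ := he
      exact Or.inl ⟨e, fun d hd => h e d he hd⟩
    · exact Or.inl ⟨1, fun d hd => absurd ⟨d, hd⟩ he⟩

/-- The partners with irrational invariant. -/
def B (a : G) : Set G := {b | IsOrd3 b ∧ P.inv3 a b * P.inv3 a b = P.inv3 a b + 1}

theorem B_inj {a : G} (ha : IsOrd3 a) :
    Set.MapsTo (fun b => (b * a * b⁻¹)⁻¹) (P.B a) (P.T a) ∧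
      Set.InjOn (fun b => (b * a * b⁻¹)⁻¹) (P.B a) := by
  have hA := P.ord3 ha
  have eρ : ∀ b, IsOrd3 b → P.ρ (b * a * b⁻¹) = P.ρ b * P.ρ a * (P.ρ b * P.ρ b) := by
    intro b hb; rw [inv_eq hb]; simp only [map_mul]
  have eρ' : ∀ b, IsOrd3 b → P.ρ (b⁻¹ * a * b) = P.ρ b * P.ρ b * P.ρ a * P.ρ b := by
    intro b hb; rw [inv_eq hb]; simp only [map_mul]
  have hd1 : ∀ b ∈ P.B a, P.inv3 a (b * a * b⁻¹) = 0 := by
    intro b hb
    rw [inv3, eρ b hb.1]
    exact (bpair_facts hA (P.ord3 hb.1) hb.2 rfl).1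
  have hinv : ∀ b ∈ P.B a, b⁻¹ ∈ P.B a := by
    intro b hb
    refine ⟨isOrd3_inv hb.1, ?_⟩
    rw [P.inv3_comm, P.inv3_inv hb.1, P.inv3_comm]
    linear_combination (norm := (noncomm_ring <;> norm_num [zsmul_eq_mul, nsmul_eq_mul] <;> noncomm_ring)) hb.2
  have hd2 : ∀ b ∈ P.B a, P.inv3 a (b⁻¹ * a * b) = 0 := by
    intro b hb
    simpa using hd1 _ (hinv b hb)
  have hd12 : ∀ b ∈ P.B a, P.inv3 (b * a * b⁻¹) (b⁻¹ * a * b) = 0 := by
    intro b hb
    have := P.inv3_conj b a (b * a * b⁻¹)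
    rw [hd1 b hb, mul_zero, zero_mul] at this
    rw [← this]
    congr 1
    have h2 : b * b = b⁻¹ := (inv_eq hb.1).symm
    calc b⁻¹ * a * b = (b * b) * a * (b⁻¹)⁻¹ := by rw [h2, inv_inv]
      _ = (b * b) * a * (b * b)⁻¹ := by rw [h2]
      _ = b * (b * a * b⁻¹) * b⁻¹ := by group
  have hmem : ∀ d, IsOrd3 d → P.inv3 a d = 0 → d⁻¹ ∈ P.T a := by
    intro d hd h0
    refine ⟨isOrd3_inv hd, ?_⟩
    rw [P.inv3_comm, P.inv3_inv hd, P.inv3_comm, h0, sub_zero]
  have hT1 : ∀ b ∈ P.B a, (b * a * b⁻¹)⁻¹ ∈ P.T a := fun b hb =>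
    hmem _ (isOrd3_conj ha b) (hd1 b hb)
  refine ⟨hT1, fun b hb b' hb' he => ?_⟩
  have hT2 : ∀ b ∈ P.B a, (b⁻¹ * a * b)⁻¹ ∈ P.T a := fun b hb =>
    hmem _ (by simpa using isOrd3_conj ha b⁻¹) (hd2 b hb)
  have hz : ∀ b ∈ P.B a, P.inv3 (b * a * b⁻¹)⁻¹ (b⁻¹ * a * b)⁻¹ = 0 := fun b hb => by
    rw [P.inv3_inv_inv (isOrd3_conj ha b) (by simpa using isOrd3_conj ha b⁻¹)]
    exact hd12 b hb
  have e1 : b * a * b⁻¹ = b' * a * b'⁻¹ := inv_injective he
  have e2 : b⁻¹ * a * b = b'⁻¹ * a * b' := by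
    refine inv_injective (P.unique_zero ha (hT1 b hb) (hT2 b hb) (hT2 b' hb') (hz b hb) ?_)
    rw [show (b * a * b⁻¹)⁻¹ = (b' * a * b'⁻¹)⁻¹ from he]
    exact hz b' hb'
  refine P.injective (bpair_unique hA (P.ord3 hb.1) (P.ord3 hb'.1) hb.2 rfl hb'.2 rfl ?_ ?_ ?_)
  · rw [← eρ b hb.1, ← eρ b' hb'.1, e1]
  · rw [← eρ' b hb.1, ← eρ' b' hb'.1, e2]
  · rw [← eρ b hb.1, ← eρ' b hb.1]
    refine P.isUnit_sub fun e => ?_
    have := hd12 b hb
    rw [← e, P.inv3_self (isOrd3_conj ha b)] at this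
    exact ne_neg_one_zero this

theorem cover {a : G} (ha : IsOrd3 a) :
    {x | IsOrd3 x} ⊆ ({a, a⁻¹} : Set G) ∪ (P.T a ∪ (fun x => x⁻¹) '' P.T a ∪ P.B a) := by
  intro x hx
  by_cases h1 : x = a
  · exact Or.inl (Or.inl h1)
  by_cases h2 : x = a⁻¹
  · exact Or.inl (Or.inr h2)
  refine Or.inr ?_
  rcases P.pair a x ha hx h1 h2 with h | h | h
  · exact Or.inl (Or.inr ⟨x⁻¹, ⟨isOrd3_inv hx, by
      rw [P.inv3_comm, P.inv3_inv hx, P.inv3_comm]
      change (1 : R) - cc (P.ρ a) (P.ρ x) = 1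
      rw [h, sub_zero]⟩, inv_inv x⟩)
  · exact Or.inl (Or.inl ⟨hx, h⟩)
  · exact Or.inr ⟨hx, h⟩

/-- There are at most twenty elements of order three, and at most eight when no invariant is
irrational. -/
theorem ncard_ord3 [Finite G] {a : G} (ha : IsOrd3 a) :
    ({x : G | IsOrd3 x}).ncard ≤ 20 ∧
      ((∀ x y : G, IsOrd3 x → IsOrd3 y → P.inv3 x y * P.inv3 x y ≠ P.inv3 x y + 1) →
        ({x : G | IsOrd3 x}).ncard ≤ 8) := by
  classical
  have hpair : ({a, a⁻¹} : Set G).ncard ≤ 2 := (Set.ncard_insert_le _ _).trans (by simp)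
  have hall := Set.ncard_le_ncard (P.cover ha)
  have h4 := Set.ncard_union_le ({a, a⁻¹} : Set G) (P.T a ∪ (fun x => x⁻¹) '' P.T a ∪ P.B a)
  have h5 := Set.ncard_union_le (P.T a ∪ (fun x => x⁻¹) '' P.T a) (P.B a)
  have h6 := Set.ncard_union_le (P.T a) ((fun x => x⁻¹) '' P.T a)
  have h7 : ((fun x => x⁻¹) '' P.T a).ncard ≤ (P.T a).ncard := Set.ncard_image_le
  have h8 : (P.B a).ncard ≤ (P.T a).ncard :=
    Set.ncard_le_ncard_of_injOn _ (P.B_inj ha).1 (P.B_inj ha).2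
  rcases P.T_subset ha with ⟨e, he⟩ | ⟨⟨e, f, hef⟩, x, y, hx, hy, hxy⟩
  · have h3 := (Set.ncard_le_ncard he).trans (ncard_rot_le a e)
    refine ⟨by omega, fun hno => ?_⟩
    have hB0 : P.B a = ∅ := Set.eq_empty_iff_forall_notMem.2 fun b hb => hno a b ha hb.1 hb.2
    have hk0 : (P.B a).ncard = 0 := by rw [hB0, Set.ncard_empty]
    omega
  · have h3 : (P.T a).ncard ≤ 6 := (Set.ncard_le_ncard hef).trans
      ((Set.ncard_union_le _ _).trans (Nat.add_le_add (ncard_rot_le a e) (ncard_rot_le a f)))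
    exact ⟨by omega, fun hno => absurd hxy (hno x y hx hy)⟩

/-- The relations of a pair with irrational invariant. -/
theorem bpair_rel {a b : G} (ha : IsOrd3 a) (hb : b ∈ P.B a) :
    P.ρ (a * (a * b * (a * b)) * (a * (a * b * (a * b)))) = -1 ∧ P.ρ ((a * b) ^ 5) = -1 := by
  constructor
  · simp only [map_mul]
    exact bpair_word (P.ord3 ha) (P.ord3 hb.1) hb.2 rfl
  · have hb2 := hb.2
    have hA := P.ord3 ha
    have hB := P.ord3 hb.1
    have e1 : P.ρ (a * b) * P.ρ (a * b)⁻¹ = 1 := by rw [← map_mul, mul_inv_cancel, map_one]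
    have e2 : P.ρ (a * b)⁻¹ * P.ρ (a * b) = 1 := by rw [← map_mul, inv_mul_cancel, map_one]
    have hg : P.inv3 a b = P.ρ (a * b) + P.ρ (a * b)⁻¹ := by
      rw [mul_inv_rev, inv_eq ha, inv_eq hb.1]
      simp only [inv3, cc, map_mul, show P.ρ a * P.ρ a = -P.ρ a - 1 from hA,
        show P.ρ b * P.ρ b = -P.ρ b - 1 from hB]
      simp only [mul_sub, sub_mul, mul_neg, neg_mul, one_mul, mul_one]
      abel
    rw [map_pow]
    generalize P.ρ (a * b) = g at e1 e2 hg
    generalize P.ρ (a * b)⁻¹ = i at e1 e2 hg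
    rw [hg] at hb2
    have e3 := assoc_rule e1
    have e4 := assoc_rule e2
    have e := congrArg (fun t => g * g * t * (g + 1)) hb2
    simp only [mul_add, add_mul, mul_assoc, mul_one, one_mul, e1, e2, e3, e4] at e
    simp only [pow_succ, pow_zero, one_mul, mul_assoc]
    linear_combination (norm := (noncomm_ring <;> norm_num [zsmul_eq_mul, nsmul_eq_mul] <;> noncomm_ring)) e

end Rep

end Cfsg.Agent.PermP.Zass
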