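import Cfsg.Agent.PermP.ZassRing

/-!
# Word computations in four elements of order three

`B, F, H` satisfy `cc A · = 1` and `cc B F = cc B H = 0`.
-/

set_option autoImplicit false
set_option linter.all false
set_option maxHeartbeats 1000000

namespace Cfsg.Agent.PermP.Zass

variable {R : Type*} [Ring R]

theorem commute_triple_zero {B F H : R} (hB : Ord3 B) (hF : F * B = -(B * F) - B - F - 1)
    (hH : H * B = -(B * H) - B - H - 1) : Commute (cc F H) B := by
  have h' := assoc_rule hB
  have hf := assoc_rule hF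
  have hh := assoc_rule hH
  unfold Ord3 at hB
  change cc F H * B = B * cc F H
  simp only [cc, mul_add, add_mul, mul_sub, sub_mul, mul_neg, neg_mul, mul_assoc, one_mul, mul_one,
    neg_neg, hB, hF, hH, h', hf, hh]
  abel

theorem no_rotated [Algebra ℚ R] [Nontrivial R] {A B F H : R}
    (hA : Ord3 A) (hB : Ord3 B) (hF : Ord3 F) (hH : Ord3 H)
    (hBA : cc A B = 1) (hFA : cc A F = 1) (hHA : cc A H = 1)
    (hFB : cc B F = 0) (hHB : cc B H = 0)
    (hg : cc F H * cc F H = cc F H + 1)
    (hrot : cc F (H * A - 1) = 0 ∨ cc F (A * H - 1) = 0) : False := by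
  have hsum : cc F H + cc F (H * A - 1) + cc F (A * H - 1) = 1 :=
    cc_sum hA (swap_of hFA) (swap_of hHA)
  have hgA' : Commute (cc F H) A := commute_triple hA (swap_of hFA) (swap_of hHA)
  have hgB' : Commute (cc F H) B := commute_triple_zero hB (swap_zero hFB) (swap_zero hHB)
  generalize hγ : cc F H = γ at hg hsum hgA' hgB'
  have hgA : A * γ = γ * A := hgA'.eq.symm
  have hgB : B * γ = γ * B := hgB'.eq.symm
  have hgF : F * γ = γ * F := by rw [← hγ, cc_commute hF]
  have hgH : H * γ = γ * H := by rw [← hγ, cc_comm F H, cc_commute hH]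
  have hHF : H * F = γ - F * H - F - H - 1 := by
    linear_combination (norm := (simp only [cc]; noncomm_ring)) hγ
  have h1 := swap_of hBA
  have h2 := swap_of hFA
  have h3 := swap_of hHA
  have h4 := swap_zero hFB
  have h5 := swap_zero hHB
  have a1 := assoc_rule h1
  have a2 := assoc_rule h2
  have a3 := assoc_rule h3
  have a4 := assoc_rule h4
  have a5 := assoc_rule h5
  have a6 := assoc_rule hHF
  have qA := assoc_rule hA
  have qB := assoc_rule hB
  have qF := assoc_rule hF
  have qH := assoc_rule hH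
  have qg := assoc_rule hg
  have cA := assoc_rule hgA
  have cB := assoc_rule hgB
  have cF := assoc_rule hgF
  have cH := assoc_rule hgH
  unfold Ord3 at hA hB hF hH
  set Z : R := F + F + H + H + A - B + 1 + 1 with hZ
  set M : R := A * B - B * A with hM
  set W : R := F - H with hW
  set L : R := A + A + 1 with hL
  have hMM : M * M = -2 := by
    have : M * M = -((2 : ℕ) • (1 : R)) := by
      simp only [hM, mul_add, add_mul, mul_sub, sub_mul, mul_neg, neg_mul, mul_assoc, one_mul,
        mul_one, neg_neg, hA, hB, h1, a1, qA, qB]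
      abel
    simpa [nsmul_eq_mul] using this
  have hZZ : Z * Z = 4 * γ - 6 := by
    have : Z * Z = (4 : ℕ) • γ - (6 : ℕ) • (1 : R) := by
      simp only [hZ, mul_add, add_mul, mul_sub, sub_mul, mul_neg, neg_mul, mul_assoc, one_mul,
        mul_one, neg_neg, hA, hB, hF, hH, h1, h2, h3, h4, h5, hHF]
      abel
    simpa [nsmul_eq_mul] using this
  have hMZ : M * Z = Z * M := by
    simp only [hM, hZ, mul_add, add_mul, mul_sub, sub_mul, mul_neg, neg_mul, mul_assoc, one_mul,
      mul_one, neg_neg, hA, hB, h1, h2, h3, h4, h5, a1, a2, a3, a4, a5, qA, qB]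
    abel
  have hMW : M * W = W * M := by
    simp only [hM, hW, mul_add, add_mul, mul_sub, sub_mul, mul_neg, neg_mul, mul_assoc, one_mul,
      mul_one, neg_neg, hA, hB, h1, h2, h3, h4, h5, a1, a2, a3, a4, a5, qA, qB]
    abel
  have hWZ : W * Z = -(Z * W) := by
    simp only [hW, hZ, mul_add, add_mul, mul_sub, sub_mul, mul_neg, neg_mul, mul_assoc, one_mul,
      mul_one, neg_neg, hA, hB, hF, hH, h1, h2, h3, h4, h5, hHF]
    abel
  have hML : M * L = -(L * M) := by
    simp only [hM, hL, mul_add, add_mul, mul_sub, sub_mul, mul_neg, neg_mul, mul_assoc, one_mul,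
      mul_one, neg_neg, hA, hB, h1, a1, qA, qB]
    abel
  have hZL : Z * L = -(L * Z) := by
    simp only [hL, hZ, mul_add, add_mul, mul_sub, sub_mul, mul_neg, neg_mul, mul_assoc, one_mul,
      mul_one, neg_neg, hA, h1, h2, h3]
    abel
  obtain ⟨S, hS⟩ : ∃ S : R, S = Z * M := ⟨_, rfl⟩
  set d : R := cc F (H * A - 1) - cc F (A * H - 1) with hd
  have hd2 : (2 : ℕ) • d = -(W * M) - L * (Z * W) := by
    simp only [hW, hM, hL, hZ, hd, cc, mul_add, add_mul, mul_sub, sub_mul, mul_neg, neg_mul,
      mul_assoc, one_mul, mul_one, neg_neg, hA, hB, hF, hH, h1, h2, h3, h4, h5, hHF, hgA, hgB,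
      a1, a2, a3, a4, a5, a6, qA, qB, qF, qH, cA, cB]
    abel
  have hSS : S * S = 12 - 8 * γ := by
    calc S * S = Z * (M * Z) * M := by rw [hS]; simp only [mul_assoc]
      _ = Z * Z * (M * M) := by rw [hMZ]; simp only [mul_assoc]
      _ = _ := by rw [hMM, hZZ]; noncomm_ring; norm_num [nsmul_eq_mul, zsmul_eq_mul]
  have hanti : S * d + d * S = 0 := by
    have hMZ' := assoc_rule hMZ
    have hMW' := assoc_rule hMW
    have hWZ' := assoc_rule hWZ
    have hML' := assoc_rule hML
    have hZL' := assoc_rule hZL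
    have : S * ((2 : ℕ) • d) + ((2 : ℕ) • d) * S = 0 := by
      rw [hd2, hS]
      simp only [mul_add, add_mul, mul_sub, sub_mul, mul_neg, neg_mul, mul_assoc, neg_neg, hMZ,
        hMW, hWZ, hML, hZL, hMZ', hMW', hWZ', hML', hZL']
      abel
    refine natCast_mul_cancel (R := R) (n := 2) two_ne_zero ?_
    rw [mul_zero, ← nsmul_eq_mul, smul_add, ← mul_smul_comm, ← smul_mul_assoc]
    exact this
  have hSg : S * γ = γ * S := by
    simp only [hS, hZ, hM, mul_add, add_mul, mul_sub, sub_mul, mul_assoc, one_mul, mul_one, hgA,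
      hgB, hgF, hgH, cA, cB, cF, cH]
  have hdd : d = γ - 1 ∨ d = 1 - γ := by
    rcases hrot with h | h
    · left; rw [hd, h]; rw [h] at hsum; linear_combination (norm := noncomm_ring) -hsum
    · right; rw [hd, h]; rw [h] at hsum; linear_combination (norm := noncomm_ring) hsum
  have h0 : S * (γ - 1) = 0 := by
    refine natCast_mul_cancel (R := R) (n := 2) two_ne_zero ?_
    rcases hdd with h | h <;> rw [h] at hanti
    · simp only [mul_sub, sub_mul, mul_one, one_mul, ← hSg] at hanti
      rw [Nat.cast_ofNat]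
      linear_combination (norm := noncomm_ring) hanti
    · simp only [mul_sub, sub_mul, mul_one, one_mul, ← hSg] at hanti
      rw [Nat.cast_ofNat]
      linear_combination (norm := noncomm_ring) -hanti
  have h00 : (12 - 8 * γ) * (γ - 1) = 0 := by rw [← hSS, mul_assoc, h0, mul_zero]
  have e : (12 - 8 * γ) * (γ - 1) = 20 * γ - 12 - 8 * (γ * γ) := by noncomm_ring
  rw [e, hg] at h00
  have h12 : 3 * γ = 5 := by
    refine natCast_mul_cancel (R := R) (n := 4) (by norm_num) ?_
    linear_combination
      (norm := (noncomm_ring <;> norm_num [zsmul_eq_mul, nsmul_eq_mul] <;> noncomm_ring)) h00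
  have h25 : (3 * γ) * (3 * γ) = 3 * (3 * γ) + 9 := by
    calc (3 * γ) * (3 * γ) = 9 * (γ * γ) := by noncomm_ring
      _ = _ := by rw [hg]; noncomm_ring; norm_num
  rw [h12] at h25
  refine ofNat_ne_zero (R := R) (n := 1) one_ne_zero ?_
  linear_combination
    (norm := (noncomm_ring <;> norm_num [zsmul_eq_mul, nsmul_eq_mul] <;> noncomm_ring)) h25

theorem third_orbit [Algebra ℚ R] [Nontrivial R] {A B F H : R}
    (hA : Ord3 A) (hB : Ord3 B) (hF : Ord3 F) (hH : Ord3 H)
    (hBA : cc A B = 1) (hFA : cc A F = 1) (hHA : cc A H = 1)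
    (hFB : cc B F = 0) (hHB : cc B H = 0) (hHF' : cc F H = 0) :
    ∀ k, k = cc (A * (B * B) * F * (B * (A * A))) (H * H) →
      k * k = k + 2 ∧ ¬ Commute k (A * B - B * A) := by
  intro k hk
  have h1 := swap_of hBA
  have h2 := swap_of hFA
  have h3 := swap_of hHA
  have h4 := swap_zero hFB
  have h5 := swap_zero hHB
  have h6 := swap_zero hHF'
  have a1 := assoc_rule h1
  have a2 := assoc_rule h2
  have a3 := assoc_rule h3
  have a4 := assoc_rule h4
  have a5 := assoc_rule h5
  have a6 := assoc_rule h6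
  have qA := assoc_rule hA
  have qB := assoc_rule hB
  have qF := assoc_rule hF
  have qH := assoc_rule hH
  unfold Ord3 at hA hB hF hH
  set Z : R := F + F + H + H + A - B + 1 + 1 with hZ
  set M : R := A * B - B * A with hM
  set W : R := F - H with hW
  set U : R := A + B + 1 with hU
  have hMM : M * M = -2 := by
    have : M * M = -((2 : ℕ) • (1 : R)) := by
      simp only [hM, mul_add, add_mul, mul_sub, sub_mul, mul_neg, neg_mul, mul_assoc, one_mul,
        mul_one, neg_neg, hA, hB, h1, a1, qA, qB]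
      abel
    simpa [nsmul_eq_mul] using this
  have hZZ : Z * Z = -6 := by
    have : Z * Z = -((6 : ℕ) • (1 : R)) := by
      simp only [hZ, mul_add, add_mul, mul_sub, sub_mul, mul_neg, neg_mul, mul_assoc, one_mul,
        mul_one, neg_neg, hA, hB, hF, hH, h1, h2, h3, h4, h5, h6]
      abel
    simpa [nsmul_eq_mul] using this
  have hWW : W * W = -1 := by
    simp only [hW, mul_add, add_mul, mul_sub, sub_mul, mul_neg, neg_mul, mul_assoc, one_mul,
      mul_one, neg_neg, hF, hH, h6]
    abel
  have hUU : U * U = -1 := by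
    simp only [hU, mul_add, add_mul, mul_sub, sub_mul, mul_neg, neg_mul, mul_assoc, one_mul,
      mul_one, neg_neg, hA, hB, h1]
    abel
  have hMZ : M * Z = Z * M := by
    simp only [hM, hZ, mul_add, add_mul, mul_sub, sub_mul, mul_neg, neg_mul, mul_assoc, one_mul,
      mul_one, neg_neg, hA, hB, h1, h2, h3, h4, h5, a1, a2, a3, a4, a5, qA, qB]
    abel
  have hMW : M * W = W * M := by
    simp only [hM, hW, mul_add, add_mul, mul_sub, sub_mul, mul_neg, neg_mul, mul_assoc, one_mul,
      mul_one, neg_neg, hA, hB, h1, h2, h3, h4, h5, a1, a2, a3, a4, a5, qA, qB]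
    abel
  have hWZ : W * Z = -(Z * W) := by
    simp only [hW, hZ, mul_add, add_mul, mul_sub, sub_mul, mul_neg, neg_mul, mul_assoc, one_mul,
      mul_one, neg_neg, hA, hB, hF, hH, h1, h2, h3, h4, h5, h6]
    abel
  have hUZ : U * Z = -(Z * U) := by
    simp only [hU, hZ, mul_add, add_mul, mul_sub, sub_mul, mul_neg, neg_mul, mul_assoc, one_mul,
      mul_one, neg_neg, hA, hB, h1, h2, h3, h4, h5]
    abel
  have hUW : U * W = -(W * U) := by
    simp only [hU, hW, mul_add, add_mul, mul_sub, sub_mul, mul_neg, neg_mul, mul_assoc, one_mul,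
      mul_one, neg_neg, hA, hB, h1, h2, h3, h4, h5]
    abel
  have hUM : U * M = -(M * U) := by
    simp only [hU, hM, mul_add, add_mul, mul_sub, sub_mul, mul_neg, neg_mul, mul_assoc, one_mul,
      mul_one, neg_neg, hA, hB, h1, a1, qA, qB]
    abel
  have hX : A * (B * B) * F * (B * (A * A)) = B * F + A * F + F - A * B := by
    simp only [mul_add, add_mul, mul_sub, sub_mul, mul_neg, neg_mul, mul_assoc, one_mul, mul_one,
      neg_neg, hA, hB, hF, hH, h1, h2, h3, h4, h5, h6, a1, a2, a3, a4, a5, a6, qA, qB, qF, qH]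
    abel
  obtain ⟨P, hP⟩ : ∃ P : R, P = Z * M + (2 : ℕ) • (Z * (W * U)) := ⟨_, rfl⟩
  have hPk : (4 : ℕ) • k - (2 : ℕ) • (1 : R) = P := by
    rw [hk, hX, hP]
    simp only [hZ, hM, hW, hU, cc, mul_add, add_mul, mul_sub, sub_mul, mul_neg, neg_mul, mul_assoc,
      one_mul, mul_one, neg_neg, hA, hB, hF, hH, h1, h2, h3, h4, h5, h6, a1, a2, a3, a4, a5, a6,
      qA, qB, qF, qH]
    abel
  have m1 := assoc_rule hMZ
  have m2 := assoc_rule hMW
  have m3 := assoc_rule hWZ
  have m4 := assoc_rule hUZ
  have m5 := assoc_rule hUW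
  have m6 := assoc_rule hUM
  have s1 := assoc_rule hMM
  have s2 := assoc_rule hZZ
  have s3 := assoc_rule hWW
  have s4 := assoc_rule hUU
  constructor
  · have hPP : P * P = 36 := by
      simp only [hP, smul_mul_assoc, mul_smul_comm, mul_add, add_mul, mul_neg, neg_mul, mul_assoc,
        one_mul, mul_one, neg_neg, smul_neg, hMZ, hMW, hWZ, hUZ, hUW, hUM, hMM, hZZ, hWW, hUU, m1,
        m2, m3, m4, m5, m6, s1, s2, s3, s4]
      noncomm_ring
      norm_num [nsmul_eq_mul, zsmul_eq_mul]
    refine natCast_mul_cancel (R := R) (n := 16) (by norm_num) ?_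
    have e : P * P = (16 : ℕ) • (k * k) - (16 : ℕ) • k + (4 : ℕ) • (1 : R) := by
      rw [← hPk]; noncomm_ring
    rw [hPP] at e
    linear_combination
      (norm := (noncomm_ring <;> norm_num [zsmul_eq_mul, nsmul_eq_mul] <;> noncomm_ring <;> norm_num [zsmul_eq_mul])) -e
  · intro hcom
    have hPM : P * M = M * P := by
      rw [← hPk]
      exact ((hcom.smul_left 4).sub_left ((Commute.one_left M).smul_left 2)).eq
    simp only [hP, smul_mul_assoc, mul_smul_comm, mul_add, add_mul, mul_neg, neg_mul, mul_assoc,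
      neg_neg, hMZ, hMW, hWZ, hUZ, hUW, hUM, m1, m2, m3, m4, m5, m6] at hPM
    have h0 : Z * (W * (M * U)) = 0 := by
      refine natCast_mul_cancel (R := R) (n := 4) (by norm_num) ?_
      linear_combination
        (norm := (noncomm_ring <;> norm_num [zsmul_eq_mul, nsmul_eq_mul] <;> noncomm_ring)) -hPM
    have q1 : W * (M * U) = 0 := by
      refine natCast_mul_cancel (R := R) (n := 6) (by norm_num) ?_
      rw [mul_zero]
      have : Z * (Z * (W * (M * U))) = 0 := by rw [h0, mul_zero]
      rw [s2, neg_mul, neg_eq_zero] at this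
      simpa using this
    have q2 : M * U = 0 := by
      have : W * (W * (M * U)) = 0 := by rw [q1, mul_zero]
      rw [s3] at this
      simpa using this
    have q3 : U = 0 := by
      refine natCast_mul_cancel (R := R) (n := 2) two_ne_zero ?_
      rw [mul_zero]
      have : M * (M * U) = 0 := by rw [q2, mul_zero]
      rw [s1, neg_mul, neg_eq_zero] at this
      simpa using this
    rw [q3, mul_zero] at hUU
    simp at hUU

end Cfsg.Agent.PermP.Zass
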